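import Groth.Agent.EtSliceLib.Hpull
import Groth.Agent.EtShLib.Stalk
import Mathlib.AlgebraicGeometry.Noetherian
import Mathlib.AlgebraicGeometry.FunctionField

/-!
# Cohomology on a disjoint union, and schemes with domain stalks
-/

set_option autoImplicit false
set_option linter.style.haveILetI false
set_option linter.unusedSectionVars false
set_option backward.isDefEq.respectTransparency false
set_option backward.isDefEq.respectTransparency.types false
set_option synthInstance.maxHeartbeats 400000
set_option maxHeartbeats 2000000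

universe u

open CategoryTheory CategoryTheory.Limits CategoryTheory.Abelian AlgebraicGeometry Opposite
open Groth.Agent.EtShLib EtSliceLib

noncomputable section

namespace DivSeqLib

variable {X : Scheme.{u}} {ι : Type*} [Fintype ι] (U : ι → X.Opens)

/-- An open as an étale object. -/
abbrev openObj (O : X.Opens) : X.Etale :=
  MorphismProperty.Over.mk ⊤ O.ι (inferInstanceAs (AlgebraicGeometry.Etale O.ι))

theorem map_toConst (W : X.Etale) :
    (toConst W).hom.app (op W) (gen W) =
      (EtCoh.const X ℤ).obj.map ((EtCore.topIsTerminal X).from W).op (DescSecLib.etOneSec X ⟨1⟩) := by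
  rw [toConst, desc_gen]

theorem exists_glue_family (hcov : ∀ x : X, ∃ i, x ∈ U i)
    (hdisj : ∀ i j, i ≠ j → Disjoint (U i : Set X) (U j : Set X)) (G : EtCoh.Ab X)
    (s : ∀ i, ToType (G.obj.obj (op (openObj (U i))))) :
    ∃ g : ToType (G.obj.obj (op (EtCoh.top X))),
      ∀ i, G.obj.map ((EtCore.topIsTerminal X).from (openObj (U i))).op g = s i := by
  let W : ι → X.Etale := fun i => openObj (U i)
  let π : ∀ i, W i ⟶ EtCoh.top X := fun i => (EtCore.topIsTerminal X).from (W i)
  have hπ : ∀ i, (π i).left = (U i).ι := fun i =>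
    (Category.comp_id _).symm.trans (MorphismProperty.Over.w (π i))
  have hmem : Sieve.ofArrows W π ∈ X.smallEtaleTopology (EtCoh.top X) := by
    rw [Scheme.ofArrows_mem_smallEtaleTopology_iff]
    refine Set.eq_univ_of_forall fun y => ?_
    obtain ⟨i, hi⟩ := hcov y
    exact Set.mem_iUnion.2 ⟨i, ⟨⟨y, hi⟩, by rw [hπ]; rfl⟩⟩
  have hsh : (Presieve.ofArrows W π).IsSheafFor (G.obj ⋙ forget AddCommGrpCat.{u + 1}) := by
    rw [Presieve.isSheafFor_iff_generate]
    exact ((isSheaf_iff_isSheaf_of_type _ _).1
      (GrothendieckTopology.HasSheafCompose.isSheaf G.obj G.property)) _ hmem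
  obtain ⟨g, hg, -⟩ := (Presieve.isSheafFor_arrows_iff _ _).1 hsh s (fun i j Z p q e => by
    have e' : p.left ≫ (U i).ι = q.left ≫ (U j).ι := by
      rw [← hπ, ← hπ]
      exact congrArg (fun t : Z ⟶ EtCoh.top X => t.left) e
    by_cases hij : i = j
    · subst hij
      obtain rfl : p = q := MorphismProperty.Over.Hom.ext ((cancel_mono (U i).ι).1 e')
      rfl
    · haveI : IsEmpty Z.left := ⟨fun z => Set.disjoint_left.1 (hdisj i j hij) (p.left.base z).2 (by
        have h := congrArg (fun t => t.base z) e'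
        simp only [Scheme.Hom.comp_base, TopCat.comp_app] at h
        exact (congrArg (· ∈ (U j : Set X)) h).mpr (q.left.base z).2)⟩
      refine (show G.obj.map p.op (s i) = G.obj.map q.op (s j) from
        res_ext G _ _ fun y => isEmptyElim y))
  exact ⟨g, hg⟩

/-- Classes vanishing on all pieces of a disjoint cover vanish. -/
theorem eq_zero_of_Hpull (hcov : ∀ x : X, ∃ i, x ∈ U i)
    (hdisj : ∀ i j, i ≠ j → Disjoint (U i : Set X) (U j : Set X)) (F : EtCoh.Ab X) (n : ℕ)
    [∀ i, PreservesFiniteLimits (EtCoh.pull (U i).ι)] (x : EtCoh.H X F n)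
    (h : ∀ i, EtCore.Hpull (U i).ι F n x = 0) : x = 0 := by
  classical
  let W : ι → X.Etale := fun i => openObj (U i)
  let t : ∀ i, ∀ j, ToType ((free (W i)).obj.obj (op (W j))) := fun i j =>
    if hij : i = j then hij ▸ gen (W i) else 0
  choose g hg using fun i => exists_glue_family U hcov hdisj (free (W i)) (t i)
  let p : ∀ i, EtCoh.const X ℤ ⟶ free (W i) := fun i =>
    ((EtCore.constAdj X).homEquiv _ _).symm (intHom (g i))
  have hp : ∀ i, (EtCore.gsec X).map (p i) (DescSecLib.etOneSec X ⟨1⟩) = g i := fun i =>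
    (gsec_map_symm _).trans (intHom_one _)
  have hsum : ∑ i, p i ≫ toConst (W i) = 𝟙 (EtCoh.const X ℤ) := by
    refine DescSecLib.et_ext_Z _ _ ?_
    let e := DescSecLib.etOneSec X ⟨1⟩
    have hL : (EtCore.gsec X).map (∑ i, p i ≫ toConst (W i)) e =
        ∑ i, (toConst (W i)).hom.app (op (EtCoh.top X)) (g i) := by
      let ev : (EtCoh.const X ℤ ⟶ EtCoh.const X ℤ) →+ ToType ((EtCore.gsec X).obj (EtCoh.const X ℤ)) :=
        AddMonoidHom.mk' (fun a => (EtCore.gsec X).map a e) fun a b => rfl
      refine (map_sum ev _ _).trans (Finset.sum_congr rfl fun i _ => ?_)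
      show (EtCore.gsec X).map (p i ≫ toConst (W i)) e = _
      rw [Functor.map_comp, ConcreteCategory.comp_apply, hp]
      rfl
    refine hL.trans ?_
    rw [CategoryTheory.Functor.map_id]
    show _ = e
    refine res_ext (EtCoh.const X ℤ) _ _ fun y => ?_
    obtain ⟨j, hj⟩ := hcov y
    refine ⟨W j, (EtCore.topIsTerminal X).from (W j), ⟨⟨y, hj⟩, ?_⟩, ?_⟩
    · rw [show ((EtCore.topIsTerminal X).from (W j)).left = (U j).ι from
        (Category.comp_id _).symm.trans (MorphismProperty.Over.w ((EtCore.topIsTerminal X).from (W j)))]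
      rfl
    rw [map_sum, ← map_toConst (W j)]
    refine (Finset.sum_eq_single j (fun i _ hij => ?_) fun h => absurd (Finset.mem_univ j) h).trans ?_
    · rw [← NatTrans.naturality_apply, hg]
      simp only [t, dif_neg hij, map_zero]
    · rw [← NatTrans.naturality_apply, hg]
      simp only [t, dif_pos]
  have h0 : ∀ i, (Ext.mk₀ (toConst (W i))).comp x (zero_add n) = 0 := fun i => by
    haveI : PreservesFiniteLimits (EtCoh.pull (W i).hom) := inferInstanceAs (PreservesFiniteLimits (EtCoh.pull (U i).ι))
    refine (psi_bijective (W i) n F).1 ?_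
    rw [map_zero, ← Hpull_eq_psi (W i) F n x]
    exact h i
  calc x = (Ext.mk₀ (∑ i, p i ≫ toConst (W i))).comp x (zero_add n) := by rw [hsum, Ext.mk₀_id_comp]
    _ = 0 := by
      let L : (EtCoh.const X ℤ ⟶ EtCoh.const X ℤ) →+ EtCoh.H X F n :=
        AddMonoidHom.mk' (fun a => (Ext.mk₀ a).comp x (zero_add n)) fun a b => by
          simp only [Ext.mk₀_add, Ext.add_comp]
      refine (map_sum L _ _).trans (Finset.sum_eq_zero fun i _ => ?_)
      show (Ext.mk₀ (p i ≫ toConst (W i))).comp x (zero_add n) = 0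
      rw [← Ext.mk₀_comp_mk₀, Ext.comp_assoc_of_second_deg_zero, h0, Ext.comp_zero]

/-- A maximal point. -/
def IsMaxPt (x : X) : Prop := ∀ y : X, y ⤳ x → y = x

variable (hdom : ∀ x : X, IsDomain (X.presheaf.stalk x))

include hdom in
theorem existsUnique_maxPt (x : X) : ∃ z : X, IsMaxPt z ∧ z ⤳ x ∧ ∀ a : X, a ⤳ x → z ⤳ a := by
  haveI := hdom x
  let b : Spec (X.presheaf.stalk x) := (⟨⊥, Ideal.bot_prime⟩ : PrimeSpectrum (X.presheaf.stalk x))
  have hall : ∀ a : X, a ⤳ x → (X.fromSpecStalk x).base b ⤳ a := fun a ha => by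
    obtain ⟨q, rfl⟩ : a ∈ Set.range (X.fromSpecStalk x).base := by
      rw [Scheme.range_fromSpecStalk]
      exact ha
    exact Specializes.map ((PrimeSpectrum.le_iff_specializes
      (⟨⊥, Ideal.bot_prime⟩ : PrimeSpectrum (X.presheaf.stalk x)) q).1 bot_le) (X.fromSpecStalk x).continuous
  have hb : (X.fromSpecStalk x).base b ⤳ x := by
    have : (X.fromSpecStalk x).base b ∈ Set.range (X.fromSpecStalk x).base := ⟨b, rfl⟩
    rwa [Scheme.range_fromSpecStalk] at this
  exact ⟨_, fun y hy => (hy.antisymm (hall y (hy.trans hb))).eq, hb, hall⟩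

variable [IsNoetherian X]

theorem finite_maxPts : {z : X | IsMaxPt z}.Finite := by
  refine (genericPoints.finite TopologicalSpace.NoetherianSpace.finite_irreducibleComponents).subset fun z hz => ?_
  obtain ⟨u, hu, hsub⟩ := exists_mem_irreducibleComponents_subset_of_isIrreducible (closure {z})
    isIrreducible_singleton.closure
  obtain ⟨g, hg⟩ := QuasiSober.sober hu.1 (isClosed_of_mem_irreducibleComponents u hu)
  have : g = z := hz g (hg.specializes (hsub (subset_closure rfl)))
  rw [← this]
  show closure {g} ∈ irreducibleComponents X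
  rw [hg.def]
  exact hu

include hdom in
theorem isOpen_specializations {z : X} (hz : IsMaxPt z) : IsOpen {x : X | z ⤳ x} := by
  rw [← isClosed_compl_iff]
  have e : {x : X | z ⤳ x}ᶜ = ⋃ a ∈ {a : X | IsMaxPt a ∧ a ≠ z}, closure {a} := by
    ext x
    simp only [Set.mem_compl_iff, Set.mem_setOf_eq, Set.mem_iUnion₂]
    constructor
    · intro hx
      obtain ⟨a, ha, hax, -⟩ := existsUnique_maxPt hdom x
      exact ⟨a, ⟨ha, fun e => hx (e ▸ hax)⟩, specializes_iff_mem_closure.1 hax⟩
    · rintro ⟨a, ⟨ha, hne⟩, hx⟩ hzx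
      obtain ⟨b, hb, -, hball⟩ := existsUnique_maxPt hdom x
      exact hne ((ha b (hball a (specializes_iff_mem_closure.2 hx))).symm.trans (hz b (hball z hzx)))
  rw [e]
  exact ((finite_maxPts (X := X)).subset fun _ h => h.1).isClosed_biUnion fun _ _ => isClosed_closure

/-- The component of a maximal point. -/
def compOpen (z : X) (hz : IsMaxPt z) : X.Opens := ⟨{x : X | z ⤳ x}, isOpen_specializations hdom hz⟩

include hdom in
theorem compOpen_disjoint {a b : X} (ha : IsMaxPt a) (hb : IsMaxPt b) (h : a ≠ b) :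
    Disjoint ({x : X | a ⤳ x}) {x : X | b ⤳ x} := by
  refine Set.disjoint_left.2 fun x hx hx' => h ?_
  obtain ⟨c, _, -, hc⟩ := existsUnique_maxPt hdom x
  exact ((ha c (hc a hx)).symm.trans (hb c (hc b hx')))

theorem isIntegral_compOpen (z : X) (hz : IsMaxPt z) : IsIntegral (compOpen hdom z hz).toScheme := by
  let O := compOpen hdom z hz
  haveI : Nonempty O := ⟨⟨z, specializes_rfl⟩⟩
  haveI : IsReduced O.toScheme := by
    haveI : ∀ x : O.toScheme, _root_.IsReduced (O.toScheme.presheaf.stalk x) := fun x => by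
      haveI := hdom x.1
      exact isReduced_of_injective (O.stalkIso x).commRingCatIsoToRingEquiv
        (O.stalkIso x).commRingCatIsoToRingEquiv.injective
    exact isReduced_of_isReduced_stalk O.toScheme
  haveI : IrreducibleSpace O.toScheme := by
    have hirr : IsIrreducible (O : Set X) := by
      have : (O : Set X) = closure {z} := Set.ext fun x => specializes_iff_mem_closure
      rw [this]
      exact isIrreducible_singleton.closure
    exact isIrreducible_iff_irreducibleSpace.1 hirr
  exact isIntegral_of_irreducibleSpace_of_isReduced _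

end DivSeqLib

end
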