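import Groth.Agent.S14389
import Groth.Agent.EtShLib.RestrNat
import Groth.Agent.EtSliceLib.Hpull
import Groth.Agent.MuConstLib.Main
import Groth.Prelude.Def_EtLim

/-!
# Functoriality of the pullback maps on `H^n(-, G_m)`
-/

set_option autoImplicit false
set_option linter.style.haveILetI false
set_option linter.unusedSectionVars false
set_option backward.isDefEq.respectTransparency false
set_option backward.isDefEq.respectTransparency.types false
set_option synthInstance.maxHeartbeats 400000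
set_option maxHeartbeats 2000000

universe u

open CategoryTheory CategoryTheory.Limits CategoryTheory.Abelian AlgebraicGeometry Opposite
open Groth.Agent.EtShLib DescSecLib MuConstLib

noncomputable section

namespace DivSeqLib

variable {X Y Z : Scheme.{u}}

/-- The adjoint of `GmPush`. -/
def thetaGm (f : X ⟶ Y) : (EtCoh.pull f).obj (EtCoh.Gm Y) ⟶ EtCoh.Gm X :=
  (EtCoh.pull f).map (EtLim.GmPush f) ≫ (EtCoh.pullPushAdj f).counit.app (EtCoh.Gm X)

theorem homEquiv_thetaGm (f : X ⟶ Y) :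
    (EtCoh.pullPushAdj f).homEquiv _ _ (thetaGm f) = EtLim.GmPush f := by
  rw [thetaGm, ← Adjunction.homEquiv_counit, Equiv.apply_symm_apply]

theorem HGmPull_eq (f : X ⟶ Y) [PreservesFiniteLimits (EtCoh.pull f)] (n : ℕ)
    (x : EtCoh.H Y (EtCoh.Gm Y) n) :
    EtLim.HGmPull f n x = (EtCore.Hpull f (EtCoh.Gm Y) n x).comp (Ext.mk₀ (thetaGm f)) (add_zero n) := by
  show Ext.comp (EtCore.Hpull f _ n (x.comp (Ext.mk₀ (EtLim.GmPush f)) (add_zero n)))
    (Ext.mk₀ ((EtCoh.pullPushAdj f).counit.app (EtCoh.Gm X))) (add_zero n) = _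
  rw [EtAcycLib.Hpull_postcomp, Ext.comp_assoc_of_second_deg_zero, Ext.mk₀_comp_mk₀]
  rfl

theorem GmPush_comp (a : X ⟶ Y) (b : Y ⟶ Z) (c : X ⟶ Z) (w : a ≫ b = c) :
    EtLim.GmPush c ≫ (etPc a b c w).app (EtCoh.Gm X) = EtLim.GmPush b ≫ (EtCoh.push b).map (EtLim.GmPush a) := by
  apply Sheaf.hom_ext
  ext ⟨W⟩ s
  refine gmVal_injective X (W := (EtCoh.bc a).obj ((EtCoh.bc b).obj W)) ?_
  show (bcCompHom a b c w W).left.appTop ((pullback.fst W.hom c).appTop (gmVal Z s)) =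
    (pullback.fst ((EtCoh.bc b).obj W).hom a).appTop ((pullback.fst W.hom b).appTop (gmVal Z s))
  exact congrArg (fun t : ((EtCoh.bc a).obj ((EtCoh.bc b).obj W)).left ⟶ W.left => t.appTop (gmVal Z s))
    (bcCompHom_fst a b c w W)

theorem thetaGm_comp (a : X ⟶ Y) (b : Y ⟶ Z) (c : X ⟶ Z) (w : a ≫ b = c) :
    (etSys.c a b c w).app (EtCoh.Gm Z) ≫ thetaGm c = (EtCoh.pull a).map (thetaGm b) ≫ thetaGm a := by
  apply ((EtCoh.pullPushAdj a).homEquiv _ _).injective
  apply ((EtCoh.pullPushAdj b).homEquiv _ _).injective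
  have hR : (EtCoh.pullPushAdj b).homEquiv _ _ ((EtCoh.pullPushAdj a).homEquiv _ _
      ((EtCoh.pull a).map (thetaGm b) ≫ thetaGm a)) =
        EtLim.GmPush b ≫ (EtCoh.push b).map (EtLim.GmPush a) := by
    rw [Adjunction.homEquiv_naturality_left, Adjunction.homEquiv_naturality_right, homEquiv_thetaGm, homEquiv_thetaGm]
  refine Eq.trans ?_ hR.symm
  refine Eq.trans ?_ (GmPush_comp a b c w)
  rw [Adjunction.homEquiv_naturality_right, Adjunction.homEquiv_naturality_right]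
  erw [etSys.homEquiv_c]
  rw [Category.assoc]
  refine (congrArg (fun t => (EtCoh.pullPushAdj c).unit.app (EtCoh.Gm Z) ≫ t)
    ((etPc a b c w).naturality (thetaGm c)).symm).trans ?_
  refine (Category.assoc _ _ _).symm.trans (congrArg (· ≫ (etPc a b c w).app (EtCoh.Gm X)) ?_)
  exact ((Adjunction.homEquiv_unit (EtCoh.pullPushAdj c) _ _ (thetaGm c)).symm.trans (homEquiv_thetaGm c))

theorem HGmPull_comp (a : X ⟶ Y) (b : Y ⟶ Z) (c : X ⟶ Z) (w : a ≫ b = c) [PreservesFiniteLimits (EtCoh.pull a)]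
    [PreservesFiniteLimits (EtCoh.pull b)] [PreservesFiniteLimits (EtCoh.pull c)] (n : ℕ)
    (x : EtCoh.H Z (EtCoh.Gm Z) n) :
    EtLim.HGmPull c n x = EtLim.HGmPull a n (EtLim.HGmPull b n x) := by
  rw [HGmPull_eq, HGmPull_eq, HGmPull_eq, EtAcycLib.Hpull_postcomp, Ext.comp_assoc_of_second_deg_zero,
    Ext.mk₀_comp_mk₀, ← thetaGm_comp a b c w, ← Groth.Agent.S14389.hpull_comp a b c w,
    Ext.comp_assoc_of_second_deg_zero, Ext.mk₀_comp_mk₀]

theorem isIso_thetaGm (j : X ⟶ Y) [AlgebraicGeometry.Etale j] : IsIso (thetaGm j) := by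
  haveI := jCont j
  haveI : IsIso ((restrTheta j).app (EtCoh.Gm Y)) := NatIso.isIso_app_of_isIso (restrTheta j) _
  have e : thetaGm j = (restrTheta j).app (EtCoh.Gm Y) := by
    apply ((EtCoh.pullPushAdj j).homEquiv _ _).injective
    rw [homEquiv_thetaGm]
    refine Eq.trans ?_ (Equiv.apply_symm_apply _ ((restrEta j).app (EtCoh.Gm Y))).symm
    apply Sheaf.hom_ext
    ext ⟨W⟩ s
    rfl
  rw [e]
  assumption

theorem Hpull_eq_zero_of_HGmPull (j : X ⟶ Y) [AlgebraicGeometry.Etale j] [PreservesFiniteLimits (EtCoh.pull j)] (n : ℕ)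
    (x : EtCoh.H Y (EtCoh.Gm Y) n) (h : EtLim.HGmPull j n x = 0) : EtCore.Hpull j (EtCoh.Gm Y) n x = 0 := by
  haveI := isIso_thetaGm j
  rw [HGmPull_eq] at h
  have h' := congrArg (fun z => Ext.comp z (Ext.mk₀ (inv (thetaGm j))) (add_zero n)) h
  rwa [Ext.comp_assoc_of_third_deg_zero, Ext.mk₀_comp_mk₀, IsIso.hom_inv_id, Ext.comp_mk₀_id, Ext.zero_comp] at h'

end DivSeqLib

end
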