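import Groth.Agent.DivSeqLib.Div
import Groth.Agent.DivSeqLib.HGm
import Groth.Agent.DivSeqLib.Components
import Groth.Agent.EtTransferLib.PointPushH
import Groth.Agent.EtShLib.CechColim
import Groth.Agent.EtKummerLib.SkyGm
import Groth.Agent.S3243

/-!
# Consequences of the divisor sequence for `H^n(X, G_m)`
-/

set_option autoImplicit false
set_option linter.style.haveILetI false
set_option linter.unusedSectionVars false
set_option backward.isDefEq.respectTransparency false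
set_option backward.isDefEq.respectTransparency.types false
set_option synthInstance.maxHeartbeats 400000
set_option maxHeartbeats 2000000

universe u

open CategoryTheory CategoryTheory.Limits CategoryTheory.Abelian AlgebraicGeometry Opposite
open CoproductsFromFiniteFiltered

noncomputable section

namespace DivSeqLib

theorem exists_sum_of_coprod {X : Scheme.{u}} [CompactSpace X] [QuasiSeparatedSpace X] {ι : Type u}
    (F : ι → EtCoh.Ab X) (n : ℕ) (z : EtCoh.H X (∐ F) n) :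
    ∃ (S : Finset (Discrete ι)) (w : {x // x ∈ S} → Σ i : ι, EtCoh.H X (F i) n),
      z = ∑ x, (w x).2.comp (Ext.mk₀ (Sigma.ι F (w x).1)) (add_zero n) := by
  classical
  haveI : IsFiltered (Finset (Discrete ι)) := inferInstance
  haveI := Groth.Agent.EtShLib.preservesFilteredColimits_H (X := X) n (Finset (Discrete ι))
  have hc := isColimitOfPreserves (EtCoh.HF X n) (isColimitFiniteSubproductsCocone F)
  obtain ⟨S, y, hy⟩ := Concrete.isColimit_exists_rep _ hc z
  let ιS := (finiteSubcoproductsCocone F).ι.app S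
  have hy' : Ext.comp (y : EtCoh.H X ((liftToFinsetObj (Discrete.functor F)).obj S) n) (Ext.mk₀ ιS) (add_zero n) = z :=
    hy
  let p : {x // x ∈ S} → ((liftToFinsetObj (Discrete.functor F)).obj S ⟶ ∐ F) := fun x =>
    ιS ≫ sigmaToProd F ≫ Pi.π F x.1.as ≫ Sigma.ι F x.1.as
  have hid : ιS = ∑ x, p x := by
    refine Sigma.hom_ext _ _ fun x => ?_
    rw [Preadditive.comp_sum]
    have hι : ∀ {Z : EtCoh.Ab X} (k : ∐ F ⟶ Z),
        Sigma.ι (fun x : {x // x ∈ S} => (Discrete.functor F).obj x.1) x ≫ ιS ≫ k = Sigma.ι F x.1.as ≫ k := by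
      intro Z k
      exact Sigma.ι_desc_assoc (fun x : {x // x ∈ S} => Sigma.ι F x.1.as) x k
    refine Eq.trans ?_ (Finset.sum_eq_single x (fun y _ hy => ?_) (fun h => absurd (Finset.mem_univ x) h)).symm
    · show _ = _ ≫ ιS ≫ sigmaToProd F ≫ Pi.π F x.1.as ≫ Sigma.ι F x.1.as
      rw [hι, ι_sigmaToProd_self_assoc]
      exact Sigma.ι_desc (fun x : {x // x ∈ S} => Sigma.ι F x.1.as) x
    · show _ ≫ ιS ≫ sigmaToProd F ≫ Pi.π F y.1.as ≫ Sigma.ι F y.1.as = 0
      rw [hι, ι_sigmaToProd_ne_assoc F (fun e => hy (Subtype.ext (Discrete.ext e.symm))), zero_comp]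
  refine ⟨S, fun x => ⟨x.1.as, Ext.comp (y : EtCoh.H X ((liftToFinsetObj (Discrete.functor F)).obj S) n)
    (Ext.mk₀ (ιS ≫ sigmaToProd F ≫ Pi.π F x.1.as)) (add_zero n)⟩, ?_⟩
  refine hy'.symm.trans ((congrArg (fun t => Ext.comp (y : EtCoh.H X ((liftToFinsetObj (Discrete.functor F)).obj S) n)
    (Ext.mk₀ t) (add_zero n)) hid).trans ?_)
  let L : ((liftToFinsetObj (Discrete.functor F)).obj S ⟶ ∐ F) →+ EtCoh.H X (∐ F) n :=
    AddMonoidHom.mk' (fun a => Ext.comp (y : EtCoh.H X ((liftToFinsetObj (Discrete.functor F)).obj S) n)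
      (Ext.mk₀ a) (add_zero n)) fun a b => by simp only [Ext.mk₀_add, Ext.comp_add]
  refine (map_sum L _ _).trans (Finset.sum_congr rfl fun x _ => ?_)
  show Ext.comp (y : EtCoh.H X ((liftToFinsetObj (Discrete.functor F)).obj S) n) (Ext.mk₀ (p x)) (add_zero n) =
    Ext.comp (Ext.comp (y : EtCoh.H X ((liftToFinsetObj (Discrete.functor F)).obj S) n)
      (Ext.mk₀ (ιS ≫ sigmaToProd F ≫ Pi.π F x.1.as)) (add_zero n)) (Ext.mk₀ (Sigma.ι F x.1.as)) (add_zero n)
  rw [Ext.comp_assoc_of_second_deg_zero, Ext.mk₀_comp_mk₀, Category.assoc, Category.assoc]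

variable {X : Scheme.{u}} [IsIntegral X] [IsNoetherian X]

instance quasiCompact_η : QuasiCompact (η X) := quasiCompact_of_compactSpace _

/-- The divisor sheaf. -/
abbrev DivSh (X : Scheme.{u}) : EtCoh.Ab X :=
  ∐ fun x : CPt X => (EtCoh.push (ix x.1)).obj (EtCoh.const (Spec (X.residueField x.1)) ℤ)

/-- The divisor sequence. -/
def divSeq (e : Q X ≅ DivSh X) : ShortComplex (EtCoh.Ab X) :=
  ShortComplex.mk (ι₀ X) (π₀ X ≫ e.hom) (by rw [cokernel.condition_assoc, zero_comp])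

theorem divSeq_shortExact (e : Q X ≅ DivSh X) : (divSeq e).ShortExact := by
  haveI : Mono (ι₀ X) := mono_ι₀
  let S₀ : ShortComplex (EtCoh.Ab X) := ShortComplex.mk (ι₀ X) (π₀ X) (cokernel.condition _)
  have h₀ : S₀.ShortExact := { exact := ShortComplex.exact_of_g_is_cokernel _ (cokernelIsCokernel _) }
  exact ShortComplex.shortExact_of_iso (ShortComplex.isoMk (Iso.refl _) (Iso.refl _) e (by simp [S₀, divSeq])
    (by simp [S₀, divSeq]) : S₀ ≅ divSeq e) h₀

/-- `H^q(X, G_m)` is torsion for `q ≥ 2`. -/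
theorem isTorsion_H_Gm (hfact : Factorial X) (q : ℕ) (ξ : EtCoh.H X (EtCoh.Gm X) (q + 2)) : IsOfFinAddOrder ξ := by
  obtain ⟨e⟩ := nonempty_cokernel_iso hfact
  have hS := divSeq_shortExact e
  let L : EtCoh.H X (EtCoh.Gm X) (q + 2) →+ EtCoh.H X (J X) (q + 2) :=
    AddMonoidHom.mk' (fun a => a.comp (Ext.mk₀ (ι₀ X)) (add_zero _)) fun a b => by rw [Ext.add_comp]
  obtain ⟨n, hn, hnξ⟩ := isOfFinAddOrder_iff_nsmul_eq_zero.1
    (EtTransferLib.isOfFinAddOrder_H_push (k := X.functionField) (η X) (q + 1)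
      (EtCoh.Gm (Spec X.functionField)) (L ξ))
  replace hnξ : L (n • ξ) = 0 := (map_nsmul L n ξ).trans hnξ
  obtain ⟨z, hz⟩ := Ext.covariant_sequence_exact₁ _ hS (n • ξ) hnξ (n₀ := q + 1) rfl
  have hzt : IsOfFinAddOrder (show EtCoh.H X (DivSh X) (q + 1) from z) := by
    obtain ⟨S, w, hw⟩ := exists_sum_of_coprod _ (q + 1) (show EtCoh.H X (DivSh X) (q + 1) from z)
    rw [hw]
    refine Finset.sum_induction _ IsOfFinAddOrder (fun a b ha hb => ha.add hb) IsOfFinAddOrder.zero fun x _ => ?_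
    haveI : QuasiCompact (ix (w x).1.1) := quasiCompact_of_compactSpace _
    let M : EtCoh.H X ((EtCoh.push (ix (w x).1.1)).obj (EtCoh.const _ ℤ)) (q + 1) →+ EtCoh.H X (DivSh X) (q + 1) :=
      AddMonoidHom.mk' (fun a => a.comp (Ext.mk₀ (Sigma.ι (fun x : CPt X => (EtCoh.push (ix x.1)).obj (EtCoh.const (Spec (X.residueField x.1)) ℤ)) (w x).1)) (add_zero _)) fun a b => by rw [Ext.add_comp]
    exact M.isOfFinAddOrder (EtTransferLib.isOfFinAddOrder_H_push (k := X.residueField (w x).1.1) (ix (w x).1.1) q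
      (EtCoh.const _ ℤ) (w x).2)
  obtain ⟨m, hm, hmz⟩ := isOfFinAddOrder_iff_nsmul_eq_zero.1 hzt
  refine isOfFinAddOrder_iff_nsmul_eq_zero.2 ⟨m * n, Nat.mul_pos hm hn, ?_⟩
  rw [mul_smul, ← hz]
  let D : EtCoh.H X (DivSh X) (q + 1) →+ EtCoh.H X (EtCoh.Gm X) (q + 2) :=
    AddMonoidHom.mk' (fun a => a.comp hS.extClass rfl) fun a b => by rw [Ext.add_comp]
  exact (map_nsmul D m z).symm.trans ((congrArg D hmz).trans (map_zero D))

/-- `H^2(X, G_m) → H^2(K, G_m)` is injective. -/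
theorem HGmPull_η_injective (hfact : Factorial X) [PreservesFiniteLimits (EtCoh.pull (η X))]
    (ξ : EtCoh.H X (EtCoh.Gm X) 2) (h : EtLim.HGmPull (η X) 2 ξ = 0) : ξ = 0 := by
  obtain ⟨e⟩ := nonempty_cokernel_iso hfact
  have hS := divSeq_shortExact e
  have h0 : ξ.comp (Ext.mk₀ (ι₀ X)) (add_zero 2) = 0 :=
    EtKummerLib.hofPush_injective_two (k := X.functionField) (η X) (by
      rw [map_zero]
      exact h)
  obtain ⟨z, hz⟩ := Ext.covariant_sequence_exact₁ _ hS ξ h0 (n₀ := 1) rfl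
  have hz0 : (show EtCoh.H X (DivSh X) 1 from z) = 0 := by
    obtain ⟨S, w, hw⟩ := exists_sum_of_coprod _ 1 (show EtCoh.H X (DivSh X) 1 from z)
    rw [hw]
    refine Finset.sum_eq_zero fun x _ => ?_
    haveI := Groth.Agent.S3243.result X (w x).1.1 ℤ
    haveI : Subsingleton (EtCoh.H X ((EtCoh.push (ix (w x).1.1)).obj (EtCoh.const _ ℤ)) 1) :=
      Groth.Agent.S3243.result X (w x).1.1 ℤ
    rw [Subsingleton.elim (α := EtCoh.H X ((EtCoh.push (ix (w x).1.1)).obj (EtCoh.const _ ℤ)) 1) (w x).2 0,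
      Ext.zero_comp]
  rw [← hz]
  exact (congrArg (fun t : EtCoh.H X (DivSh X) 1 => t.comp hS.extClass (rfl : 1 + 1 = 2)) hz0).trans (Ext.zero_comp _ _ _ _ _)

section Decomp

variable {Y : Scheme.{u}} [IsNoetherian Y]

theorem factorial_open (hfact : Factorial Y) (O : Y.Opens) : Factorial O.toScheme := fun V v =>
  hfact (MorphismProperty.Over.mk ⊤ (V.hom ≫ O.ι)
    (MorphismProperty.IsStableUnderComposition.comp_mem _ _ V.prop (inferInstanceAs (AlgebraicGeometry.Etale O.ι)))) v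

theorem isDomain_stalk (hfact : Factorial Y) (y : Y) : IsDomain (Y.presheaf.stalk y) :=
  (hfact (EtCoh.top Y) y).1

/-- Vanishing on all components. -/
theorem eq_zero_of_components (hfact : Factorial Y) (n : ℕ) (ξ : EtCoh.H Y (EtCoh.Gm Y) n)
    (h : ∀ (z : Y) (hz : IsMaxPt z) [PreservesFiniteLimits (EtCoh.pull (compOpen (isDomain_stalk hfact) z hz).ι)],
      EtLim.HGmPull (compOpen (isDomain_stalk hfact) z hz).ι n ξ = 0) : ξ = 0 := by
  haveI : Fintype {z : Y // IsMaxPt z} := (finite_maxPts (X := Y)).fintype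
  let U : {z : Y // IsMaxPt z} → Y.Opens := fun z => compOpen (isDomain_stalk hfact) z.1 z.2
  haveI : ∀ z, PreservesFiniteLimits (EtCoh.pull (U z).ι) := fun z => EtSliceLib.pullExact _
  refine eq_zero_of_Hpull U (fun y => ?_) (fun a b hab => ?_) _ n ξ fun z => ?_
  · obtain ⟨z, hz, hzy, -⟩ := existsUnique_maxPt (isDomain_stalk hfact) y
    exact ⟨⟨z, hz⟩, hzy⟩
  · exact compOpen_disjoint (isDomain_stalk hfact) a.2 b.2 fun e => hab (Subtype.ext e)
  · exact Hpull_eq_zero_of_HGmPull (U z).ι n ξ (h z.1 z.2)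

end Decomp

end DivSeqLib

end
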