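import Groth.Agent.EtPunctLib.Alg
import Mathlib.RingTheory.QuasiFinite.Basic
import Mathlib.RingTheory.Unramified.LocalStructure
import Mathlib.RingTheory.Ideal.GoingDown
import Mathlib.RingTheory.UniqueFactorizationDomain.Ideal
import Mathlib.RingTheory.Ideal.MinimalPrime.Noetherian

/-!
# Divisors of elements invertible on the generic fibre of an étale algebra

`R` is a domain with fraction field `K`, `A` is étale over `R` and `AK = A ⊗ K`.
-/

set_option autoImplicit false
set_option linter.style.haveILetI false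
set_option linter.unusedSectionVars false
set_option maxHeartbeats 1000000

universe u

open IsLocalRing

noncomputable section

namespace DivSeqLib

variable {R A : Type u} [CommRing R] [IsDomain R] [CommRing A] [Algebra R A] [Algebra.Etale R A]

/-- A prime of height one, elementarily. -/
def IsHtOne (p : Ideal R) : Prop :=
  p ≠ ⊥ ∧ ∀ P : Ideal R, P.IsPrime → P ≤ p → P = ⊥ ∨ P = p

variable {AK : Type u} [CommRing AK] [Algebra A AK]
  [IsLocalization (Algebra.algebraMapSubmonoid A (nonZeroDivisors R)) AK]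

/-- `f` is a unit of the local ring at `q`. -/
def UnitAt (q : Ideal A) (f : AK) : Prop :=
  ∃ a b : A, a ∉ q ∧ b ∉ q ∧ f * algebraMap A AK b = algebraMap A AK a

variable (R) in
theorem isSMulRegular_of_ne_zero {r : R} (hr : r ≠ 0) : IsSMulRegular A r :=
  Module.Flat.isSMulRegular_of_isRegular (IsRegular.of_ne_zero hr)

theorem eq_zero_of_algebraMap_mul {r : R} (hr : r ≠ 0) {a : A} (h : algebraMap R A r * a = 0) : a = 0 :=
  isSMulRegular_of_ne_zero R hr (by simpa [Algebra.smul_def] using h)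

theorem submonoid_le_nonZeroDivisors :
    Algebra.algebraMapSubmonoid A (nonZeroDivisors R) ≤ nonZeroDivisors A := by
  rintro _ ⟨r, hr, rfl⟩
  exact mem_nonZeroDivisors_iff_left.2 fun a ha => eq_zero_of_algebraMap_mul (nonZeroDivisors.ne_zero hr) ha

include R in
variable (R) in
theorem injective_AK : Function.Injective (algebraMap A AK) :=
  IsLocalization.injective AK (submonoid_le_nonZeroDivisors (R := R))

include R in
variable (R) in
theorem exists_mul_eq (f : AK) : ∃ (a : A) (r : R), r ≠ 0 ∧ f * algebraMap A AK (algebraMap R A r) = algebraMap A AK a := by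
  obtain ⟨⟨a, _, r, hr, rfl⟩, h⟩ := IsLocalization.surj (Algebra.algebraMapSubmonoid A (nonZeroDivisors R)) f
  exact ⟨a, r, nonZeroDivisors.ne_zero hr, h⟩

theorem isUnit_algebraMap_AK {r : R} (hr : r ≠ 0) : IsUnit (algebraMap A AK (algebraMap R A r)) :=
  IsLocalization.map_units AK
    (⟨algebraMap R A r, r, mem_nonZeroDivisors_of_ne_zero hr, rfl⟩ : Algebra.algebraMapSubmonoid A (nonZeroDivisors R))

variable {q : Ideal A} [q.IsPrime]

theorem UnitAt.mul {f g : AK} (hf : UnitAt q f) (hg : UnitAt q g) : UnitAt q (f * g) := by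
  obtain ⟨a, b, ha, hb, h⟩ := hf
  obtain ⟨c, d, hc, hd, h'⟩ := hg
  exact ⟨a * c, b * d, Ideal.IsPrime.mul_notMem inferInstance ha hc, Ideal.IsPrime.mul_notMem inferInstance hb hd,
    by rw [map_mul, map_mul, ← h, ← h']; ring⟩

theorem UnitAt.inv {f : AKˣ} (hf : UnitAt q (f : AK)) : UnitAt q ((f⁻¹ : AKˣ) : AK) := by
  obtain ⟨a, b, ha, hb, h⟩ := hf
  exact ⟨b, a, hb, ha, by rw [← h, ← mul_assoc, Units.inv_mul, one_mul]⟩

theorem UnitAt.one : UnitAt q (1 : AK) :=
  ⟨1, 1, fun h => (inferInstance : q.IsPrime).ne_top ((Ideal.eq_top_iff_one q).2 h),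
    fun h => (inferInstance : q.IsPrime).ne_top ((Ideal.eq_top_iff_one q).2 h), by rw [one_mul]⟩

/-- A nonzero element of the local domain divides a nonzero constant. -/
theorem exists_mul_eq_const (hdom : IsDomain (Localization.AtPrime q)) {a : A}
    (ha : algebraMap A (Localization.AtPrime q) a ≠ 0) :
    ∃ (c s : A) (r : R), s ∉ q ∧ r ≠ 0 ∧ a * c = algebraMap R A r * s := by
  haveI := hdom
  let B := Localization.AtPrime q
  let M : Submonoid B := (nonZeroDivisors R).map (algebraMap R B)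
  by_cases hd : Disjoint (Ideal.span {algebraMap A B a} : Set B) (M : Set B)
  · exfalso
    obtain ⟨P, hP, haP, hPM⟩ := Ideal.exists_le_prime_disjoint _ _ hd
    haveI := hP
    haveI : Module.Flat A B := IsLocalization.flat B q.primeCompl
    haveI : Module.Flat R B := Module.Flat.trans R A B
    have hP0 : ∀ r : R, algebraMap R B r ∈ P → r = 0 := fun r hr => by
      by_contra h0
      exact Set.disjoint_left.1 hPM hr ⟨r, mem_nonZeroDivisors_of_ne_zero h0, rfl⟩
    let P' : Ideal A := P.comap (algebraMap A B)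
    let P₀ : Ideal A := (⊥ : Ideal B).comap (algebraMap A B)
    haveI : P'.IsPrime := Ideal.comap_isPrime _ _
    haveI : P₀.IsPrime := Ideal.comap_isPrime _ _
    have h0 : ∀ r : R, algebraMap R A r ∈ P' → r = 0 := fun r hr => hP0 r (by
      rw [IsScalarTower.algebraMap_apply R A B]
      exact hr)
    have he : P₀.under R = P'.under R := by
      refine le_antisymm (Ideal.comap_mono (Ideal.comap_mono bot_le)) fun r hr => ?_
      rw [h0 r hr]
      exact Ideal.zero_mem _
    have : P₀ = P' := Algebra.QuasiFinite.eq_of_le_of_under_eq (R := R) P₀ P' (Ideal.comap_mono bot_le) he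
    refine ha ?_
    have h1 : a ∈ P₀ := this ▸ (haP (Ideal.mem_span_singleton_self _) : algebraMap A B a ∈ P)
    exact Ideal.mem_bot.1 h1
  · obtain ⟨x, hx, r, hr, rfl⟩ := Set.not_disjoint_iff.1 hd
    obtain ⟨y, hy⟩ := Ideal.mem_span_singleton.1 hx
    obtain ⟨⟨c, s⟩, hcs⟩ := IsLocalization.surj q.primeCompl y
    have h1 : algebraMap A B (a * c) = algebraMap A B (algebraMap R A r * s) := by
      rw [map_mul, map_mul, ← hcs, ← mul_assoc, ← hy, IsScalarTower.algebraMap_apply R A B]
    obtain ⟨⟨t, ht⟩, h2⟩ := (IsLocalization.eq_iff_exists q.primeCompl B).1 h1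
    exact ⟨t * c, t * s, r, Ideal.IsPrime.mul_notMem inferInstance ht s.2, nonZeroDivisors.ne_zero hr, by
      linear_combination h2⟩

theorem ne_zero_of_isUnit {f : AK} (hf : IsUnit f) {a : A} {r : R}
    (h : f * algebraMap A AK (algebraMap R A r) = algebraMap A AK a) (hr : r ≠ 0) :
    algebraMap A (Localization.AtPrime q) a ≠ 0 := fun h0 => by
  obtain ⟨⟨s, hs⟩, hsa⟩ := (IsLocalization.map_eq_zero_iff q.primeCompl (Localization.AtPrime q) a).1 h0
  refine hs ?_
  have h1 : algebraMap A AK s * (f * algebraMap A AK (algebraMap R A r)) = 0 := by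
    rw [h, ← map_mul, hsa, map_zero]
  have h2 : algebraMap A AK s = 0 := (IsUnit.mul_left_eq_zero (hf.mul (isUnit_algebraMap_AK hr))).1 h1
  rw [(map_eq_zero_iff _ (injective_AK R)).1 h2]
  exact q.zero_mem

theorem eq_of_mul_ne (a : A) {x y : A} (hxy : algebraMap A (Localization.AtPrime q) x = algebraMap A (Localization.AtPrime q) y) :
    ∃ s ∉ q, s * x * a = s * y * a := by
  obtain ⟨⟨s, hs⟩, h⟩ := (IsLocalization.eq_iff_exists q.primeCompl (Localization.AtPrime q)).1 hxy
  exact ⟨s, hs, by linear_combination a * h⟩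

variable (A) in
theorem map_maximalIdeal_eq {p : Ideal R} [p.IsPrime] (q : Ideal A) [q.IsPrime] (hqp : q.under R = p) {t : R}
    (ht : maximalIdeal (Localization.AtPrime p) = Ideal.span {algebraMap R _ t}) :
    maximalIdeal (Localization.AtPrime q) = Ideal.span {algebraMap R (Localization.AtPrime q) t} := by
  haveI : q.LiesOver p := ⟨hqp.symm⟩
  haveI : Algebra.IsUnramifiedAt R q := inferInstance
  letI := Localization.AtPrime.algebraOfLiesOver p q
  have h : (maximalIdeal (Localization.AtPrime p)).map (algebraMap (Localization.AtPrime p) (Localization.AtPrime q)) =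
      maximalIdeal (Localization.AtPrime q) := by
    rw [← ((Algebra.isUnramifiedAt_iff_map_eq R p q).1 inferInstance).2, ← Localization.AtPrime.map_eq_maximalIdeal,
      Ideal.map_map, ← IsScalarTower.algebraMap_eq]
  rw [← h, ht, Ideal.map_span, Set.image_singleton, ← IsScalarTower.algebraMap_apply]

/-- Invertible elements on the generic fibre have orders at codimension one points. -/
theorem exists_unitAt_zpow [IsNoetherianRing R] {p : Ideal R} [p.IsPrime] (hqp : q.under R = p) {t : R} (ht0 : t ≠ 0)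
    (ht : maximalIdeal (Localization.AtPrime p) = Ideal.span {algebraMap R _ t}) (f : AKˣ) :
    ∃ m : ℤ, UnitAt q ((f * ((isUnit_algebraMap_AK (A := A) (AK := AK) ht0).unit) ^ m : AKˣ) : AK) := by
  haveI : IsNoetherianRing A := Algebra.FiniteType.isNoetherianRing R A
  let B := Localization.AtPrime q
  haveI : IsNoetherianRing B := IsLocalization.isNoetherianRing q.primeCompl B inferInstance
  have hm := map_maximalIdeal_eq A q hqp ht
  obtain ⟨a, r, hr, h⟩ := exists_mul_eq R (A := A) (f : AK)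
  have ha := ne_zero_of_isUnit (q := q) f.isUnit h hr
  have hr' : algebraMap A B (algebraMap R A r) ≠ 0 := by
    refine ne_zero_of_isUnit (R := R) (AK := AK) (q := q) (isUnit_algebraMap_AK (A := A) hr) (r := 1) ?_ one_ne_zero
    rw [map_one, map_one, mul_one]
  obtain ⟨i, u, hu, hai⟩ := EtPunctLib.exists_unit_mul_pow hm ha
  obtain ⟨k, v, hv, hrk⟩ := EtPunctLib.exists_unit_mul_pow hm hr'
  obtain ⟨⟨u1, s1⟩, hu1⟩ := IsLocalization.surj q.primeCompl u
  obtain ⟨⟨v1, s2⟩, hv1⟩ := IsLocalization.surj q.primeCompl v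
  have hu1' : u1 ∉ q := fun hmem => by
    refine (IsLocalization.AtPrime.to_map_mem_maximal_iff B q u1).2 hmem ?_
    rw [← hu1]
    exact hu.mul (IsLocalization.map_units B s1)
  have hv1' : v1 ∉ q := fun hmem => by
    refine (IsLocalization.AtPrime.to_map_mem_maximal_iff B q v1).2 hmem ?_
    rw [← hv1]
    exact hv.mul (IsLocalization.map_units B s2)
  have e1 : algebraMap A B (a * s1) = algebraMap A B (algebraMap R A t ^ i * u1) := by
    rw [map_mul, map_mul, map_pow, ← hu1, hai, ← IsScalarTower.algebraMap_apply]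
    ring
  have e2 : algebraMap A B (algebraMap R A r * s2) = algebraMap A B (algebraMap R A t ^ k * v1) := by
    rw [map_mul, map_mul, map_pow, ← hv1, hrk, ← IsScalarTower.algebraMap_apply]
    ring
  obtain ⟨⟨c1, hc1⟩, e1'⟩ := (IsLocalization.eq_iff_exists q.primeCompl B).1 e1
  obtain ⟨⟨c2, hc2⟩, e2'⟩ := (IsLocalization.eq_iff_exists q.primeCompl B).1 e2
  let T : AKˣ := (isUnit_algebraMap_AK (A := A) (AK := AK) ht0).unit
  refine ⟨(k : ℤ) - i, c1 * u1 * (c2 * s2), c2 * v1 * (c1 * s1), ?_, ?_, ?_⟩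
  · exact Ideal.IsPrime.mul_notMem inferInstance (Ideal.IsPrime.mul_notMem inferInstance hc1 hu1')
      (Ideal.IsPrime.mul_notMem inferInstance hc2 s2.2)
  · exact Ideal.IsPrime.mul_notMem inferInstance (Ideal.IsPrime.mul_notMem inferInstance hc2 hv1')
      (Ideal.IsPrime.mul_notMem inferInstance hc1 s1.2)
  · have g1 := congrArg (algebraMap A AK) e1'
    have g2 := congrArg (algebraMap A AK) e2'
    simp only [map_mul, map_pow] at g1 g2 ⊢
    have hT : ((T : AKˣ) : AK) = algebraMap A AK (algebraMap R A t) := IsUnit.unit_spec _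
    rw [← hT] at g1 g2
    have hP : ((T : AKˣ) : AK) ^ i * (((T ^ i)⁻¹ : AKˣ) : AK) = 1 := by
      rw [← Units.val_pow_eq_pow_val, Units.mul_inv]
    rw [zpow_sub, zpow_natCast, zpow_natCast]
    show (f : AK) * ((T ^ k * (T ^ i)⁻¹ : AKˣ) : AK) * _ = _
    rw [Units.val_mul, Units.val_pow_eq_pow_val]
    linear_combination (-(f : AK) * algebraMap A AK c1 * algebraMap A AK (s1 : A) * (((T ^ i)⁻¹ : AKˣ) : AK)) * g2 +
      (algebraMap A AK c2 * algebraMap A AK (s2 : A) * algebraMap A AK c1 * algebraMap A AK (s1 : A) *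
        (((T ^ i)⁻¹ : AKˣ) : AK)) * h +
      (algebraMap A AK c2 * algebraMap A AK (s2 : A) * (((T ^ i)⁻¹ : AKˣ) : AK)) * g1 +
      (algebraMap A AK c2 * algebraMap A AK (s2 : A) * algebraMap A AK c1 * algebraMap A AK u1) * hP

theorem zpow_eq_zero {t : R} (ht0 : t ≠ 0) (htq : algebraMap R A t ∈ q) {m : ℤ}
    (h : UnitAt q (((isUnit_algebraMap_AK (A := A) (AK := AK) ht0).unit ^ m : AKˣ) : AK)) : m = 0 := by
  have key : ∀ n : ℕ, UnitAt q (((isUnit_algebraMap_AK (A := A) (AK := AK) ht0).unit ^ n : AKˣ) : AK) → n = 0 := by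
    intro n ⟨a, b, ha, _, hab⟩
    by_contra hn
    refine ha ?_
    rw [Units.val_pow_eq_pow_val, IsUnit.unit_spec, ← map_pow, ← map_mul] at hab
    rw [← injective_AK R hab]
    exact q.mul_mem_right _ (Ideal.pow_mem_of_mem q htq n (Nat.pos_of_ne_zero hn))
  obtain ⟨n, rfl | rfl⟩ := m.eq_nat_or_neg
  · rw [zpow_natCast] at h
    rw [key n h, Nat.cast_zero]
  · rw [zpow_neg, zpow_natCast] at h
    rw [key n (by simpa using h.inv), Nat.cast_zero, neg_zero]

theorem mem_or_mem {f : AK} {a : A} {r : R} (h : f * algebraMap A AK (algebraMap R A r) = algebraMap A AK a)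
    (hn : ¬ UnitAt q f) : a ∈ q ∨ algebraMap R A r ∈ q := by
  by_contra hc
  push Not at hc
  exact hn ⟨a, _, hc.1, hc.2, h⟩

theorem le_or_eq_of_htOne (hdom : IsDomain (Localization.AtPrime q)) (hp : IsHtOne (q.under R)) {P : Ideal A}
    [P.IsPrime] (hPq : P ≤ q) {a : A} (haP : a ∈ P) (ha : algebraMap A (Localization.AtPrime q) a ≠ 0) : P = q := by
  refine Algebra.QuasiFinite.eq_of_le_of_under_eq (R := R) P q hPq ?_
  rcases hp.2 (P.under R) inferInstance (Ideal.comap_mono hPq) with h | h
  · obtain ⟨c, s, r, hs, hr, e⟩ := exists_mul_eq_const (R := R) hdom ha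
    have h1 : algebraMap R A r * s ∈ P := e ▸ P.mul_mem_right c haP
    have h2 : algebraMap R A r ∈ P := ((inferInstance : P.IsPrime).mem_or_mem h1).resolve_right fun h3 => hs (hPq h3)
    exact absurd (Ideal.mem_bot.1 (h ▸ (h2 : r ∈ P.under R))) hr
  · exact h

/-- Only finitely many codimension one points carry zeros or poles. -/
theorem finite_not_unitAt [IsNoetherianRing R] (f : AKˣ) :
    {q : PrimeSpectrum A | IsHtOne (q.asIdeal.under R) ∧ IsDomain (Localization.AtPrime q.asIdeal) ∧
      ¬ UnitAt q.asIdeal (f : AK)}.Finite := by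
  haveI : IsNoetherianRing A := Algebra.FiniteType.isNoetherianRing R A
  obtain ⟨a, r, hr, h⟩ := exists_mul_eq R (A := A) (f : AK)
  have key : ∀ b : A, (∀ q : Ideal A, [q.IsPrime] → algebraMap A (Localization.AtPrime q) b ≠ 0) →
      {q : PrimeSpectrum A | IsHtOne (q.asIdeal.under R) ∧ IsDomain (Localization.AtPrime q.asIdeal) ∧
        b ∈ q.asIdeal}.Finite := fun b hb => by
    refine ((Ideal.finite_minimalPrimes_of_isNoetherianRing A (Ideal.span {b})).preimage
      (fun x _ y _ e => PrimeSpectrum.ext e)).subset fun q ⟨h1, h2, h3⟩ => ?_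
    refine ⟨⟨inferInstance, (Ideal.span_singleton_le_iff_mem _).2 h3⟩, fun P ⟨hP, hbP⟩ hPq => ?_⟩
    exact (le_or_eq_of_htOne h2 h1 hPq (hbP (Ideal.mem_span_singleton_self b)) (hb _)).ge
  refine ((key a fun q _ => ne_zero_of_isUnit f.isUnit h hr).union (key (algebraMap R A r) fun q _ => ?_)).subset
    fun q ⟨h1, h2, h3⟩ => (mem_or_mem h h3).imp (fun h4 => ⟨h1, h2, h4⟩) fun h4 => ⟨h1, h2, h4⟩
  exact ne_zero_of_isUnit (R := R) (AK := AK) (isUnit_algebraMap_AK hr) (r := 1) (by rw [map_one, map_one, mul_one])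
    one_ne_zero

/-- Height-one primes of the local factorial ring lie over height-one primes. -/
theorem isHtOne_under_of_prime [IsNoetherianRing R] (hdom : IsDomain (Localization.AtPrime q)) {g : Localization.AtPrime q}
    (hg : Prime g) : IsHtOne (((Ideal.span {g}).comap (algebraMap A (Localization.AtPrime q))).under R) := by
  haveI := hdom
  haveI : IsNoetherianRing A := Algebra.FiniteType.isNoetherianRing R A
  let B := Localization.AtPrime q
  haveI : IsNoetherianRing B := IsLocalization.isNoetherianRing q.primeCompl B inferInstance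
  haveI : (Ideal.span {g}).IsPrime := (Ideal.span_singleton_prime hg.ne_zero).2 hg
  let q' : Ideal A := (Ideal.span {g}).comap (algebraMap A B)
  haveI : q'.IsPrime := Ideal.comap_isPrime _ _
  have hq' : q' ≤ q := fun x hx => by
    by_contra hxq
    exact hg.not_unit (isUnit_of_dvd_unit (Ideal.mem_span_singleton.1 hx) (IsLocalization.map_units B (⟨x, hxq⟩ : q.primeCompl)))
  have hnz : ∀ x : R, x ≠ 0 → algebraMap R B x ≠ 0 := fun x hx h0 => by
    rw [IsScalarTower.algebraMap_apply R A B] at h0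
    obtain ⟨⟨s, hs⟩, hsa⟩ := (IsLocalization.map_eq_zero_iff q.primeCompl B _).1 h0
    exact hs (by rw [eq_zero_of_algebraMap_mul (A := A) (a := s) hx (by rw [mul_comm]; exact hsa)]; exact q.zero_mem)
  constructor
  · intro hbot
    obtain ⟨⟨a, s⟩, has⟩ := IsLocalization.surj q.primeCompl g
    have haq : a ∈ q' := Ideal.mem_span_singleton.2 ⟨_, has.symm⟩
    have ha : algebraMap A B a ≠ 0 := by
      rw [← has]
      exact mul_ne_zero hg.ne_zero (IsLocalization.map_units B s).ne_zero
    obtain ⟨c, s', r, hs', hr, e⟩ := exists_mul_eq_const (R := R) hdom ha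
    have h1 : algebraMap R A r * s' ∈ q' := e ▸ q'.mul_mem_right c haq
    have h2 : algebraMap R A r ∈ q' := (Ideal.IsPrime.mem_or_mem inferInstance h1).resolve_right fun h3 => by
      exact hg.not_unit (isUnit_of_dvd_unit (Ideal.mem_span_singleton.1 h3)
        (IsLocalization.map_units B (⟨s', hs'⟩ : q.primeCompl)))
    exact hr (Ideal.mem_bot.1 (hbot ▸ (h2 : r ∈ q'.under R)))
  · intro P hP hPle
    rw [or_iff_not_imp_left]
    intro hPbot
    by_contra hPne
    haveI := hP
    haveI : q'.LiesOver (q'.under R) := ⟨rfl⟩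
    obtain ⟨Q, hQ, hQp, hQo⟩ := Ideal.exists_ideal_lt_liesOver_of_lt (p := P) (q := q'.under R) q' (lt_of_le_of_ne hPle hPne)
    haveI := hQp
    obtain ⟨x, hx, hx0⟩ := Submodule.exists_mem_ne_zero_of_ne_bot hPbot
    let QB : Ideal B := Q.map (algebraMap A B)
    have hd : Disjoint (q.primeCompl : Set A) Q := Set.disjoint_left.2 fun y hy hyQ => hy (hq' (hQ.le hyQ))
    haveI : QB.IsPrime := IsLocalization.isPrime_of_isPrime_disjoint q.primeCompl B Q hQp hd
    have hcomap : QB.comap (algebraMap A B) = Q := IsLocalization.under_map_of_isPrime_disjoint q.primeCompl B hQp hd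
    have hxQ : algebraMap R B x ∈ QB := by
      rw [IsScalarTower.algebraMap_apply R A B]
      exact Ideal.mem_map_of_mem _ (show algebraMap R A x ∈ Q from (hQo.over ▸ hx : x ∈ Q.under R))
    have hle : QB ≤ Ideal.span {g} := Ideal.map_le_iff_le_comap.2 hQ.le
    have hgQ : g ∉ QB := fun h => by
      have : QB = Ideal.span {g} := le_antisymm hle ((Ideal.span_singleton_le_iff_mem _).2 h)
      exact hQ.ne (by rw [← hcomap, this])
    have hdiv : ∀ n : ℕ, ∀ y ∈ QB, g ^ n ∣ y := fun n => by
      induction n with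
      | zero => exact fun y _ => by rw [pow_zero]; exact one_dvd y
      | succ n ih =>
        intro y hy
        obtain ⟨z, rfl⟩ := Ideal.mem_span_singleton.1 (hle hy)
        rw [pow_succ']
        exact mul_dvd_mul_left g (ih z ((Ideal.IsPrime.mem_or_mem inferInstance hy).resolve_left hgQ))
    obtain ⟨n, hn⟩ := FiniteMultiplicity.of_prime_left hg (hnz x hx0)
    exact hn (hdiv (n + 1) _ hxQ)

/-- Algebraic Hartogs for units. -/
theorem unitAt_of_htOne [IsNoetherianRing R] (hdom : IsDomain (Localization.AtPrime q))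
    (hufd : UniqueFactorizationMonoid (Localization.AtPrime q)) (f : AKˣ)
    (h : ∀ (q' : Ideal A) [q'.IsPrime], q' ≤ q → IsHtOne (q'.under R) → UnitAt q' (f : AK)) :
    UnitAt q (f : AK) := by
  haveI := hdom
  haveI := hufd
  let B := Localization.AtPrime q
  obtain ⟨a, r, hr, hfa⟩ := exists_mul_eq R (A := A) (f : AK)
  obtain ⟨a', r', c, hrel, ha', hr'⟩ :=
    UniqueFactorizationMonoid.exists_reduced_factors (algebraMap A B a) (ne_zero_of_isUnit f.isUnit hfa hr)
      (algebraMap A B (algebraMap R A r))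
  have hc : c ≠ 0 := by
    rintro rfl
    exact ne_zero_of_isUnit f.isUnit hfa hr (ha'.symm.trans (zero_mul _))
  have key : ∀ g : B, Prime g → g ∣ a' ∨ g ∣ r' → False := fun g hg hd => by
    haveI : (Ideal.span {g}).IsPrime := (Ideal.span_singleton_prime hg.ne_zero).2 hg
    have hle : (Ideal.span {g}).comap (algebraMap A B) ≤ q := fun x hx => by
      by_contra hxq
      exact hg.not_unit (isUnit_of_dvd_unit (Ideal.mem_span_singleton.1 hx) (IsLocalization.map_units B (⟨x, hxq⟩ : q.primeCompl)))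
    obtain ⟨x, y, hx, hy, hxy⟩ := h _ hle (isHtOne_under_of_prime hdom hg)
    have h1 : a * y = algebraMap R A r * x := injective_AK R (AK := AK) (by
      rw [map_mul, map_mul, ← hfa, ← hxy]; ring)
    have h2 : a' * algebraMap A B y = r' * algebraMap A B x := mul_left_cancel₀ hc (by
      rw [← mul_assoc, ← mul_assoc, ha', hr', ← map_mul, ← map_mul, h1])
    rcases hd with hd | hd
    · rcases hg.dvd_or_dvd (h2 ▸ hd.mul_right _ : g ∣ r' * algebraMap A B x) with h3 | h3
      · exact hg.not_unit (hrel hd h3)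
      · exact hx (Ideal.mem_span_singleton.2 h3)
    · rcases hg.dvd_or_dvd (h2 ▸ hd.mul_right _ : g ∣ a' * algebraMap A B y) with h3 | h3
      · exact hg.not_unit (hrel h3 hd)
      · exact hy (Ideal.mem_span_singleton.2 h3)
  have hunit : ∀ e : B, e ≠ 0 → (∀ g : B, Prime g → g ∣ e → False) → IsUnit e := fun e he hk => by
    by_contra hu
    obtain ⟨g, hg, hge⟩ := WfDvdMonoid.exists_irreducible_factor hu he
    exact hk g (UniqueFactorizationMonoid.irreducible_iff_prime.1 hg) hge |> fun x => x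
  have hr0 : algebraMap A B (algebraMap R A r) ≠ 0 :=
    ne_zero_of_isUnit (R := R) (AK := AK) (isUnit_algebraMap_AK hr) (r := 1) (by rw [map_one, map_one, mul_one])
      one_ne_zero
  have hua : IsUnit a' := hunit a' (fun h0 => ne_zero_of_isUnit f.isUnit hfa hr (ha'.symm.trans (by rw [h0, mul_zero])))
    fun g hg hd => key g hg (Or.inl hd)
  have hur : IsUnit r' := hunit r' (fun h0 => hr0 (hr'.symm.trans (by rw [h0, mul_zero])))
    fun g hg hd => key g hg (Or.inr hd)
  obtain ⟨⟨u1, s1⟩, hu1⟩ := IsLocalization.surj q.primeCompl a'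
  obtain ⟨⟨v1, s2⟩, hv1⟩ := IsLocalization.surj q.primeCompl r'
  have hu1' : u1 ∉ q := fun hmem => by
    refine (IsLocalization.AtPrime.to_map_mem_maximal_iff B q u1).2 hmem ?_
    rw [← hu1]
    exact hua.mul (IsLocalization.map_units B s1)
  have hv1' : v1 ∉ q := fun hmem => by
    refine (IsLocalization.AtPrime.to_map_mem_maximal_iff B q v1).2 hmem ?_
    rw [← hv1]
    exact hur.mul (IsLocalization.map_units B s2)
  have e : algebraMap A B (a * (v1 * s1)) = algebraMap A B (algebraMap R A r * (u1 * s2)) := by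
    rw [map_mul, map_mul, map_mul, map_mul, ← hu1, ← hv1, ← ha', ← hr']
    ring
  obtain ⟨⟨w, hw⟩, e'⟩ := (IsLocalization.eq_iff_exists q.primeCompl B).1 e
  refine ⟨w * (u1 * s2), w * (v1 * s1), Ideal.IsPrime.mul_notMem inferInstance hw (Ideal.IsPrime.mul_notMem inferInstance hu1' s2.2),
    Ideal.IsPrime.mul_notMem inferInstance hw (Ideal.IsPrime.mul_notMem inferInstance hv1' s1.2), ?_⟩
  refine (isUnit_algebraMap_AK (A := A) (AK := AK) hr).mul_right_injective ?_
  simp only
  rw [← mul_assoc, mul_comm (algebraMap A AK (algebraMap R A r)) (f : AK), hfa, ← map_mul, ← map_mul]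
  exact congrArg _ (by linear_combination e')

/-- Local equations of height-one primes. -/
theorem exists_equation [IsNoetherianRing R] (hdom : IsDomain (Localization.AtPrime q))
    (hufd : UniqueFactorizationMonoid (Localization.AtPrime q)) (q₁ : Ideal A) [q₁.IsPrime] (h₁ : q₁ ≤ q)
    (hp : IsHtOne (q₁.under R)) :
    ∃ (g c s : A) (r : R), g ∈ q₁ ∧ s ∉ q ∧ r ≠ 0 ∧ g * c = algebraMap R A r * s ∧
      (∀ q' : Ideal A, q'.IsPrime → q' ≤ q → IsHtOne (q'.under R) → g ∈ q' → q' = q₁) ∧
      ∀ t : R, t ≠ 0 → algebraMap R A t ∈ q₁ →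
        maximalIdeal (Localization.AtPrime q₁) = Ideal.span {algebraMap R _ t} →
        ∃ a b : A, a ∉ q₁ ∧ b ∉ q₁ ∧ g * b = algebraMap R A t * a := by
  haveI := hdom
  haveI := hufd
  let B := Localization.AtPrime q
  have hd : Disjoint (q.primeCompl : Set A) q₁ := Set.disjoint_left.2 fun y hy hy' => hy (h₁ hy')
  let Q₁ : Ideal B := q₁.map (algebraMap A B)
  haveI : Q₁.IsPrime := IsLocalization.isPrime_of_isPrime_disjoint q.primeCompl B q₁ inferInstance hd
  have hcomap : Q₁.comap (algebraMap A B) = q₁ := IsLocalization.under_map_of_isPrime_disjoint q.primeCompl B inferInstance hd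
  obtain ⟨x, hx, hx0⟩ := Submodule.exists_mem_ne_zero_of_ne_bot hp.1
  have hQ₁ : Q₁ ≠ ⊥ := by
    intro h0
    have hx' : algebraMap A B (algebraMap R A x) = 0 :=
      Ideal.mem_bot.1 (h0 ▸ Ideal.mem_map_of_mem _ (hx : algebraMap R A x ∈ q₁))
    obtain ⟨⟨s, hs⟩, hsa⟩ := (IsLocalization.map_eq_zero_iff q.primeCompl B _).1 hx'
    exact hs (by rw [eq_zero_of_algebraMap_mul (A := A) (a := s) hx0 (by rw [mul_comm]; exact hsa)]; exact q.zero_mem)
  obtain ⟨g₀, hg₀Q, hg₀⟩ := (inferInstance : Q₁.IsPrime).exists_mem_prime_of_ne_bot hQ₁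
  obtain ⟨⟨g, s₀⟩, hgs⟩ := IsLocalization.surj q.primeCompl g₀
  have hgB : algebraMap A B g ≠ 0 := by
    rw [← hgs]
    exact mul_ne_zero hg₀.ne_zero (IsLocalization.map_units B s₀).ne_zero
  obtain ⟨c, s, r, hs, hr, e⟩ := exists_mul_eq_const (R := R) hdom hgB
  have hgq₁ : g ∈ q₁ := by
    rw [← hcomap, Ideal.mem_comap, ← hgs]
    exact Q₁.mul_mem_right _ hg₀Q
  haveI : (Ideal.span {g₀}).IsPrime := (Ideal.span_singleton_prime hg₀.ne_zero).2 hg₀
  let q₀ : Ideal A := (Ideal.span {g₀}).comap (algebraMap A B)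
  haveI : q₀.IsPrime := Ideal.comap_isPrime _ _
  have hle : q₀ ≤ q₁ := by
    rw [← hcomap]
    exact Ideal.comap_mono ((Ideal.span_singleton_le_iff_mem _).2 hg₀Q)
  have heq : q₀ = q₁ := by
    refine Algebra.QuasiFinite.eq_of_le_of_under_eq (R := R) q₀ q₁ hle ?_
    exact ((hp.2 (q₀.under R) inferInstance (Ideal.comap_mono hle)).resolve_left
      (isHtOne_under_of_prime hdom hg₀).1)
  refine ⟨g, c, s, r, hgq₁, hs, hr, e, fun q' hq' hq'q hp' hgq' => ?_, fun t ht0 htq hm => ?_⟩
  · haveI := hq'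
    have h2 : q₁ ≤ q' := fun y hy => by
      rw [← heq] at hy
      obtain ⟨z, hz⟩ := Ideal.mem_span_singleton.1 (hy : algebraMap A B y ∈ Ideal.span {g₀})
      obtain ⟨⟨z₁, sz⟩, hz₁⟩ := IsLocalization.surj q.primeCompl z
      have he : algebraMap A B (y * (s₀ * sz)) = algebraMap A B (g * z₁) := by
        rw [map_mul, map_mul, map_mul, ← hgs, ← hz₁, hz]
        ring
      obtain ⟨⟨w, hw⟩, he'⟩ := (IsLocalization.eq_iff_exists q.primeCompl B).1 he
      have : w * (s₀ * sz) * y ∈ q' := by
        rw [mul_assoc, mul_comm ((s₀ : A) * sz) y]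
        simp only at he'
        rw [he']
        exact q'.mul_mem_left _ (q'.mul_mem_right _ hgq')
      refine (hq'.mem_or_mem this).resolve_left fun hc => ?_
      exact Ideal.IsPrime.mul_notMem (inferInstance : q.IsPrime) hw
        (Ideal.IsPrime.mul_notMem inferInstance s₀.2 sz.2) (hq'q hc)
    refine (Algebra.QuasiFinite.eq_of_le_of_under_eq (R := R) q₁ q' h2 ?_).symm
    exact (hp'.2 (q₁.under R) inferInstance (Ideal.comap_mono h2)).resolve_left hp.1
  · let C := Localization.AtPrime q₁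
    have hgC : algebraMap A C g ∈ maximalIdeal C := (IsLocalization.AtPrime.to_map_mem_maximal_iff C q₁ g).2 hgq₁
    rw [hm, Ideal.mem_span_singleton] at hgC
    obtain ⟨z, hz⟩ := hgC
    obtain ⟨⟨z₁, sz⟩, hz₁⟩ := IsLocalization.surj q₁.primeCompl z
    have he : algebraMap A C (g * sz) = algebraMap A C (algebraMap R A t * z₁) := by
      rw [map_mul, map_mul, ← hz₁, hz, ← IsScalarTower.algebraMap_apply]
      ring
    obtain ⟨⟨w, hw⟩, he'⟩ := (IsLocalization.eq_iff_exists q₁.primeCompl C).1 he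
    simp only at he'
    have htq₀ : algebraMap A B (algebraMap R A t) ∈ Ideal.span {g₀} := (heq.ge htq : algebraMap R A t ∈ q₀)
    obtain ⟨y, hy⟩ := Ideal.mem_span_singleton.1 htq₀
    obtain ⟨⟨y₁, sy⟩, hy₁⟩ := IsLocalization.surj q.primeCompl y
    have hf : algebraMap A B (algebraMap R A t * (s₀ * sy)) = algebraMap A B (g * y₁) := by
      rw [map_mul _ (algebraMap R A t), map_mul _ (s₀ : A), map_mul, ← hgs, ← hy₁, hy]
      ring
    obtain ⟨⟨w', hw'⟩, hf'⟩ := (IsLocalization.eq_iff_exists q.primeCompl B).1 hf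
    simp only at hf'
    have hz₁' : z₁ ∉ q₁ := by
      intro hmem
      have h0 : algebraMap R A t * (w' * (s₀ * sy) * (w * sz) - w' * y₁ * (w * z₁)) = 0 := by
        linear_combination (w * (sz : A)) * hf' + (w' * y₁) * he'
      have h1 := eq_zero_of_algebraMap_mul ht0 h0
      have h3 : w' * (s₀ * sy) * (w * sz) ∈ q₁ := by
        rw [sub_eq_zero.1 h1]
        exact q₁.mul_mem_left _ (q₁.mul_mem_left _ hmem)
      refine ((inferInstance : q₁.IsPrime).mem_or_mem h3).elim (fun h4 => ?_) (Ideal.IsPrime.mul_notMem inferInstance hw sz.2)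
      exact Ideal.IsPrime.mul_notMem (inferInstance : q.IsPrime) hw' (Ideal.IsPrime.mul_notMem inferInstance s₀.2 sy.2) (h₁ h4)
    exact ⟨w * z₁, w * sz, Ideal.IsPrime.mul_notMem inferInstance hw hz₁',
      Ideal.IsPrime.mul_notMem inferInstance hw sz.2, by linear_combination he'⟩

end DivSeqLib

end
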