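import Groth.Agent.MuConstLib.Main
import Groth.Agent.EtAcycLib.Local
import Groth.Prelude.Def_EtLim
import Groth.Agent.EtShLib.Stalk
import Mathlib.AlgebraicGeometry.FunctionField

/-!
# The sheaf of rational functions on the étale site of an integral scheme
-/

set_option autoImplicit false
set_option linter.style.haveILetI false
set_option linter.unusedSectionVars false
set_option backward.isDefEq.respectTransparency false
set_option backward.isDefEq.respectTransparency.types false
set_option synthInstance.maxHeartbeats 400000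
set_option maxHeartbeats 2000000

universe u

open CategoryTheory CategoryTheory.Limits AlgebraicGeometry Opposite
open Groth.Agent.EtShLib MuConstLib

noncomputable section

namespace DivSeqLib

variable (X : Scheme.{u}) [IsIntegral X]

/-- The generic point. -/
abbrev η : Spec X.functionField ⟶ X := X.fromSpecStalk (genericPoint X)

/-- `η_* G_m`. -/
abbrev J : EtCoh.Ab X := (EtCoh.push (η X)).obj (EtCoh.Gm (Spec X.functionField))

/-- The natural map. -/
abbrev ι₀ : EtCoh.Gm X ⟶ J X := EtLim.GmPush (η X)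

/-- The quotient. -/
abbrev Q : EtCoh.Ab X := cokernel (ι₀ X)

/-- The projection. -/
abbrev π₀ : J X ⟶ Q X := cokernel.π (ι₀ X)

/-- The generic fibre of an étale object. -/
abbrev gV (V : X.Etale) : (Spec X.functionField).Etale := (EtCoh.bc (η X)).obj V

/-- The value of a section of `η_* G_m`. -/
abbrev jVal {V : X.Etale} (f : ToType ((J X).obj.obj (op V))) : Γ((gV X V).left, ⊤) :=
  gmVal (Spec X.functionField) (W := gV X V) f

/-- Constants in functions on the generic fibre. -/
def cst (V : X.Etale) : X.functionField →+* Γ((gV X V).left, ⊤) :=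
  (gV X V).hom.appTop.hom.comp (Scheme.ΓSpecIso X.functionField).inv.hom

/-- Rational functions as sections. -/
def secV (V : X.Etale) (a : X.functionFieldˣ) : ToType ((J X).obj.obj (op V)) :=
  ULift.up (Additive.ofMul (Units.map (cst X V).toMonoidHom a))

theorem jVal_secV (V : X.Etale) (a : X.functionFieldˣ) : jVal X (secV X V a) = cst X V a := rfl

theorem jVal_add {V : X.Etale} (f g : ToType ((J X).obj.obj (op V))) : jVal X (f + g) = jVal X f * jVal X g := rfl

theorem jVal_zero {V : X.Etale} : jVal X (0 : ToType ((J X).obj.obj (op V))) = 1 := rfl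

theorem jVal_inj {V : X.Etale} {f g : ToType ((J X).obj.obj (op V))} (h : jVal X f = jVal X g) : f = g :=
  gmVal_injective (Spec X.functionField) (W := gV X V) h

/-- Sections as units. -/
def jUnit {V : X.Etale} (f : ToType ((J X).obj.obj (op V))) : (Γ((gV X V).left, ⊤))ˣ :=
  (show ULift.{u + 1} (Additive (Γ((gV X V).left, ⊤))ˣ) from f).down.toMul

theorem jUnit_val {V : X.Etale} (f : ToType ((J X).obj.obj (op V))) : (jUnit X f : Γ((gV X V).left, ⊤)) = jVal X f := rfl

theorem jUnit_zsmul {V : X.Etale} (m : ℤ) (f : ToType ((J X).obj.obj (op V))) : jUnit X (m • f) = jUnit X f ^ m := rfl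

theorem jVal_map {W V : X.Etale} (k : V ⟶ W) (f : ToType ((J X).obj.obj (op W))) :
    jVal X ((J X).obj.map k.op f) = ((EtCoh.bc (η X)).map k).left.appTop.hom (jVal X f) := rfl

theorem jVal_ι₀ {V : X.Etale} (u : ToType ((EtCoh.Gm X).obj.obj (op V))) :
    jVal X ((ι₀ X).hom.app (op V) u) = (pullback.fst V.hom (η X)).appTop.hom (gmVal X u) := rfl

theorem secV_res {V W : X.Etale} (g : V ⟶ W) (a : X.functionFieldˣ) :
    (J X).obj.map g.op (secV X W a) = secV X V a := by
  refine jVal_inj X ?_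
  exact congrArg (fun t : (gV X V).left ⟶ Spec X.functionField =>
    t.appTop ((Scheme.ΓSpecIso X.functionField).inv (a : X.functionField)))
    (MorphismProperty.Over.w ((EtCoh.bc (η X)).map g) :
      ((EtCoh.bc (η X)).map g).left ≫ (gV X W).hom = (gV X V).hom)

theorem secV_add (V : X.Etale) (a b : X.functionFieldˣ) : secV X V (a * b) = secV X V a + secV X V b :=
  jVal_inj X (map_mul (cst X V) (a : X.functionField) (b : X.functionField))

/-- `f` is a unit near `w`. -/
def UN {V : X.Etale} (f : ToType ((J X).obj.obj (op V))) (w : V.left) : Prop :=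
  ∃ (W : X.Etale) (g : W ⟶ V) (z : W.left) (s : ToType ((EtCoh.Gm X).obj.obj (op W))),
    g.left.base z = w ∧ (ι₀ X).hom.app (op W) s = (J X).obj.map g.op f

theorem π₀_ι₀ {V : X.Etale} (s : ToType ((EtCoh.Gm X).obj.obj (op V))) :
    (π₀ X).hom.app (op V) ((ι₀ X).hom.app (op V) s) = 0 :=
  congrArg (fun t : EtCoh.Gm X ⟶ Q X => t.hom.app (op V) s) (cokernel.condition (ι₀ X))

theorem exists_image_section {V : X.Etale} {f : ToType ((J X).obj.obj (op V))}
    (hf : (π₀ X).hom.app (op V) f = 0) :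
    ∃ s : ToType ((Abelian.image (ι₀ X)).obj.obj (op V)), (Abelian.image.ι (ι₀ X)).hom.app (op V) s = f := by
  let E := sheafToPresheaf X.smallEtaleTopology AddCommGrpCat.{u + 1} ⋙
    (evaluation X.Etaleᵒᵖ AddCommGrpCat.{u + 1}).obj (op V)
  haveI : PreservesFiniteLimits E := comp_preservesFiniteLimits _ _
  haveI : E.Additive := ⟨fun {_ _ _ _} => rfl⟩
  let S := ShortComplex.mk (Abelian.image.ι (ι₀ X)) (cokernel.π (ι₀ X)) (kernel.condition _)
  exact (ShortComplex.ab_exact_iff _).1 ((S.map E).exact_of_f_is_kernel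
    (KernelFork.mapIsLimit _ (kernelIsKernel (cokernel.π (ι₀ X))) E)) _ hf

theorem germ_π₀_eq_zero_iff {V : X.Etale} (f : ToType ((J X).obj.obj (op V))) {Ω : Type u} [Field Ω] [IsSepClosed Ω]
    {ξ : Spec (CommRingCat.of Ω) ⟶ X} (v : Fib ξ V) :
    germ ξ (Q X) V v ((π₀ X).hom.app (op V) f) = 0 ↔ UN X f v.pt := by
  constructor
  · intro h
    rw [← map_zero (germ ξ (Q X) V v).hom] at h
    obtain ⟨W, g, z, hz, he⟩ := (germ_eq_iff (F := Q X) ξ V v _ _).1 h
    rw [map_zero] at he
    have he' : (π₀ X).hom.app (op W) ((J X).obj.map g.op f) = 0 :=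
      (NatTrans.naturality_apply (π₀ X).hom g.op f).trans he
    obtain ⟨t, ht⟩ := exists_image_section X he'
    obtain ⟨W', φ, ⟨z', hz'⟩, s, hs⟩ := EtAcycLib.exists_lift (Abelian.factorThruImage (ι₀ X)) W t z.pt
    refine ⟨W', φ ≫ g, z', s, ?_, ?_⟩
    · show g.left.base (φ.left.base z') = v.pt
      rw [hz', ← hz]
      rfl
    · rw [op_comp, Functor.map_comp, ConcreteCategory.comp_apply, ← ht, ← NatTrans.naturality_apply, ← hs]
      exact (congrArg (fun t : EtCoh.Gm X ⟶ J X => t.hom.app (op W') s) (Abelian.image.fac (ι₀ X))).symm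
  · rintro ⟨W, g, z, s, hz, hs⟩
    haveI := etale_left g
    obtain ⟨l, hl, -⟩ := Scheme.exists_fac_of_etale_of_isSepClosed g.left v.hom z hz
    let z' : Fib ξ W := Fib.mk l (by rw [← MorphismProperty.Over.w g, ← Category.assoc, hl, Fib.w])
    have hv : z'.map g = v := Fib.ext ((Fib.map_hom g z').trans hl)
    rw [← hv, ← germ_res_apply, ← NatTrans.naturality_apply, ← hs, π₀_ι₀, map_zero]

theorem exists_fib_pt {V : X.Etale} (w : V.left) :
    ∃ (Ω : Type u) (_ : Field Ω) (_ : IsSepClosed Ω) (ξ : Spec (CommRingCat.of Ω) ⟶ X) (v : Fib ξ V), v.pt = w :=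
  exists_geometric w

theorem UN.add {V : X.Etale} {f g : ToType ((J X).obj.obj (op V))} {w : V.left} (hf : UN X f w) (hg : UN X g w) :
    UN X (f + g) w := by
  obtain ⟨Ω, _, _, ξ, v, rfl⟩ := exists_geometric w
  rw [← germ_π₀_eq_zero_iff] at hf hg ⊢
  rw [map_add, map_add, hf, hg, add_zero]

theorem UN.neg {V : X.Etale} {f : ToType ((J X).obj.obj (op V))} {w : V.left} (hf : UN X f w) : UN X (-f) w := by
  obtain ⟨Ω, _, _, ξ, v, rfl⟩ := exists_geometric w
  rw [← germ_π₀_eq_zero_iff] at hf ⊢
  rw [map_neg, map_neg, hf, neg_zero]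

theorem UN_res_iff {V W : X.Etale} (g : W ⟶ V) (f : ToType ((J X).obj.obj (op V))) (z : W.left) :
    UN X ((J X).obj.map g.op f) z ↔ UN X f (g.left.base z) := by
  obtain ⟨Ω, _, _, ξ, v, rfl⟩ := exists_geometric z
  have hpt : (v.map g).pt = g.left.base v.pt := rfl
  rw [← hpt, ← germ_π₀_eq_zero_iff, ← germ_π₀_eq_zero_iff, ← germ_res_apply (F := Q X) ξ g v,
    ← NatTrans.naturality_apply]

theorem UN_congr_ι₀ {V : X.Etale} (s : ToType ((EtCoh.Gm X).obj.obj (op V))) (w : V.left) :
    UN X ((ι₀ X).hom.app (op V) s) w :=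
  ⟨V, 𝟙 V, w, s, rfl, by rw [op_id, CategoryTheory.Functor.map_id]; rfl⟩

end DivSeqLib

end
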