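import Groth.Agent.DivSeqLib.Basic
import Groth.Agent.DivSeqLib.Alg
import Mathlib.AlgebraicGeometry.Morphisms.Etale
import Mathlib.RingTheory.RingHom.Etale

/-!
# Affine charts of étale schemes over an integral scheme
-/

set_option autoImplicit false
set_option linter.style.haveILetI false
set_option linter.unusedSectionVars false
set_option backward.isDefEq.respectTransparency false
set_option backward.isDefEq.respectTransparency.types false
set_option synthInstance.maxHeartbeats 400000
set_option maxHeartbeats 2000000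

universe u

open CategoryTheory CategoryTheory.Limits AlgebraicGeometry Opposite
open Groth.Agent.EtShLib MuConstLib
open scoped TensorProduct

noncomputable section

namespace DivSeqLib

variable {X : Scheme.{u}} [IsIntegral X] {U : X.Opens} (hU : IsAffineOpen U) [Nonempty U]
variable (A : Type u) [CommRing A] [Algebra Γ(X, U) A] [Algebra.Etale Γ(X, U) A]

theorem mem_genericPoint (U : X.Opens) [h : Nonempty U] : genericPoint X ∈ U :=
  ((genericPoint_spec X).mem_open_set_iff U.isOpen).mpr ⟨h.some.1, trivial, h.some.2⟩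

include hU in
theorem η_eq : Spec.map (CommRingCat.ofHom (algebraMap Γ(X, U) X.functionField)) ≫ hU.fromSpec = η X :=
  hU.fromSpecStalk_eq_fromSpecStalk (mem_genericPoint U)

/-- An affine chart. -/
def chart : X.Etale :=
  haveI : IsOpenImmersion hU.fromSpec := hU.isOpenImmersion_fromSpec
  haveI : AlgebraicGeometry.Etale (Spec.map (CommRingCat.ofHom (algebraMap Γ(X, U) A))) :=
    (HasRingHomProperty.Spec_iff (P := @AlgebraicGeometry.Etale)).2 (RingHom.etale_algebraMap.2 inferInstance)
  Scheme.Etale.mk (Spec.map (CommRingCat.ofHom (algebraMap Γ(X, U) A)) ≫ hU.fromSpec)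

theorem chart_hom : (chart hU A).hom = Spec.map (CommRingCat.ofHom (algebraMap Γ(X, U) A)) ≫ hU.fromSpec := rfl

/-- The functions of a chart map to the functions on its generic fibre. -/
def jA : A →+* Γ((gV X (chart hU A)).left, ⊤) :=
  (pullback.fst (chart hU A).hom (η X)).appTop.hom.comp (Scheme.ΓSpecIso (CommRingCat.of A)).inv.hom

instance algebraGen : Algebra A Γ((gV X (chart hU A)).left, ⊤) := (jA hU A).toAlgebra

theorem algebraMap_gen : algebraMap A Γ((gV X (chart hU A)).left, ⊤) = jA hU A := rfl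

theorem appTop_spec {B C : CommRingCat.{u}} (f : B ⟶ C) (z : B) :
    (Spec.map f).appTop ((Scheme.ΓSpecIso B).inv z) = (Scheme.ΓSpecIso C).inv (f z) := by
  rw [← CommRingCat.comp_apply, ← Scheme.ΓSpecIso_inv_naturality]
  rfl

theorem jA_algebraMap (r : Γ(X, U)) :
    jA hU A (algebraMap Γ(X, U) A r) = cst X (chart hU A) (algebraMap Γ(X, U) X.functionField r) := by
  haveI : IsOpenImmersion hU.fromSpec := hU.isOpenImmersion_fromSpec
  haveI : Mono hU.fromSpec := inferInstance
  show (pullback.fst (chart hU A).hom (η X)).appTop ((Scheme.ΓSpecIso (CommRingCat.of A)).inv (algebraMap Γ(X, U) A r)) =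
    (pullback.snd (chart hU A).hom (η X)).appTop ((Scheme.ΓSpecIso X.functionField).inv (algebraMap Γ(X, U) X.functionField r))
  have h1 := appTop_spec (CommRingCat.ofHom (algebraMap Γ(X, U) A)) r
  have h2 := appTop_spec (CommRingCat.ofHom (algebraMap Γ(X, U) X.functionField)) r
  simp only [CommRingCat.ofHom, CommRingCat.hom_ofHom] at h1 h2
  refine ((congrArg (pullback.fst (chart hU A).hom (η X)).appTop h1.symm).trans ?_).trans
    (congrArg (pullback.snd (chart hU A).hom (η X)).appTop h2)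
  have e : pullback.fst (chart hU A).hom (η X) ≫ Spec.map (CommRingCat.ofHom (algebraMap Γ(X, U) A)) =
      pullback.snd (chart hU A).hom (η X) ≫ Spec.map (CommRingCat.ofHom (algebraMap Γ(X, U) X.functionField)) := by
    rw [← cancel_mono hU.fromSpec, Category.assoc, Category.assoc]
    erw [η_eq hU]
    exact pullback.condition
  exact congrArg (fun t => t.appTop ((Scheme.ΓSpecIso Γ(X, U)).inv r)) e

instance isLocalizationGen :
    IsLocalization (Algebra.algebraMapSubmonoid A (nonZeroDivisors Γ(X, U))) Γ((gV X (chart hU A)).left, ⊤) := by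
  haveI : IsOpenImmersion hU.fromSpec := hU.isOpenImmersion_fromSpec
  haveI : IsFractionRing Γ(X, U) X.functionField := functionField_isFractionRing_of_isAffineOpen X U hU
  let K : Type u := X.functionField
  let f := Spec.map (CommRingCat.ofHom (algebraMap Γ(X, U) A))
  let g := Spec.map (CommRingCat.ofHom (algebraMap Γ(X, U) K))
  let e : (gV X (chart hU A)).left ≅ pullback f g :=
    { hom := pullback.lift (pullback.fst (chart hU A).hom (η X)) (pullback.snd (chart hU A).hom (η X)) (by
        rw [← cancel_mono hU.fromSpec, Category.assoc, Category.assoc]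
        erw [η_eq hU]
        exact pullback.condition)
      inv := pullback.lift (pullback.fst f g) (pullback.snd f g) (by
        show pullback.fst f g ≫ f ≫ hU.fromSpec = pullback.snd f g ≫ η X
        rw [← η_eq hU]
        exact pullback.condition_assoc _)
      hom_inv_id := by
        refine pullback.hom_ext ?_ ?_ <;> simp
      inv_hom_id := by
        refine pullback.hom_ext ?_ ?_ <;> simp }
  let e' : (gV X (chart hU A)).left ≅ Spec (CommRingCat.of (A ⊗[Γ(X, U)] K)) :=
    e ≪≫ pullbackSpecIso Γ(X, U) A K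
  let ρ : (A ⊗[Γ(X, U)] K) ≃+* Γ((gV X (chart hU A)).left, ⊤) :=
    ((Scheme.ΓSpecIso (CommRingCat.of (A ⊗[Γ(X, U)] K))).symm ≪≫ Scheme.Γ.mapIso e'.op).commRingCatIsoToRingEquiv
  have hρ : ∀ a : A, ρ (algebraMap A (A ⊗[Γ(X, U)] K) a) = jA hU A a := fun a => by
    show e'.hom.appTop ((Scheme.ΓSpecIso (CommRingCat.of (A ⊗[Γ(X, U)] K))).inv
      (CommRingCat.ofHom (algebraMap A (A ⊗[Γ(X, U)] K)) a)) = _
    rw [← appTop_spec, ← CommRingCat.comp_apply, ← Scheme.Hom.comp_appTop]
    refine congrArg (fun t : pullback (chart hU A).hom (η X) ⟶ Spec (CommRingCat.of A) => t.appTop _) ?_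
    show (e.hom ≫ (pullbackSpecIso Γ(X, U) A K).hom) ≫ _ = _
    rw [Category.assoc]
    erw [pullbackSpecIso_hom_fst']
    exact pullback.lift_fst _ _ _
  letI : Algebra K (A ⊗[Γ(X, U)] K) := Algebra.TensorProduct.rightAlgebra
  let ρA : (A ⊗[Γ(X, U)] K) ≃ₐ[A] Γ((gV X (chart hU A)).left, ⊤) := AlgEquiv.ofRingEquiv (f := ρ) hρ
  haveI : IsLocalization (Algebra.algebraMapSubmonoid A (nonZeroDivisors Γ(X, U))) (A ⊗[Γ(X, U)] K) :=
    (Algebra.isLocalization_iff_isPushout (nonZeroDivisors Γ(X, U)) K).2 inferInstance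
  exact IsLocalization.isLocalization_of_algEquiv _ ρA

/-- A section as an element on a chart. -/
abbrev cVal (f : ToType ((J X).obj.obj (op (chart hU A)))) : Γ((gV X (chart hU A)).left, ⊤) := jVal X f

/-- Chart morphisms. -/
def chartMap {B : Type u} [CommRing B] [Algebra Γ(X, U) B] [Algebra.Etale Γ(X, U) B] (φ : A →ₐ[Γ(X, U)] B) :
    chart hU B ⟶ chart hU A :=
  MorphismProperty.Over.homMk (Spec.map (CommRingCat.ofHom φ.toRingHom)) (by
    show Spec.map _ ≫ Spec.map _ ≫ hU.fromSpec = Spec.map _ ≫ hU.fromSpec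
    rw [← Spec.map_comp_assoc]
    congr 2
    ext x
    exact φ.commutes x)

theorem map_jA {B : Type u} [CommRing B] [Algebra Γ(X, U) B] [Algebra.Etale Γ(X, U) B] (φ : A →ₐ[Γ(X, U)] B) (a : A) :
    ((EtCoh.bc (η X)).map (chartMap hU A φ)).left.appTop (jA hU A a) = jA hU B (φ a) := by
  show ((EtCoh.bc (η X)).map (chartMap hU A φ)).left.appTop ((pullback.fst (chart hU A).hom (η X)).appTop _) =
    (pullback.fst (chart hU B).hom (η X)).appTop ((Scheme.ΓSpecIso (CommRingCat.of B)).inv
      (CommRingCat.ofHom φ.toRingHom a))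
  rw [← appTop_spec]
  exact congrArg (fun t : ((EtCoh.bc (η X)).obj (chart hU B)).left ⟶ Spec (CommRingCat.of A) =>
      t.appTop ((Scheme.ΓSpecIso (CommRingCat.of A)).inv a))
    (EtCoh.isPullback_bc_map (η X) (chartMap hU A φ)).w

theorem injective_appTop_fst {B : Type u} [CommRing B] [Algebra Γ(X, U) B] [Algebra.Etale Γ(X, U) B] :
    Function.Injective (pullback.fst (chart hU B).hom (η X)).appTop.hom := by
  intro x y h
  obtain ⟨x', rfl⟩ := (ConcreteCategory.bijective_of_isIso (Scheme.ΓSpecIso (CommRingCat.of B)).inv).2 x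
  obtain ⟨y', rfl⟩ := (ConcreteCategory.bijective_of_isIso (Scheme.ΓSpecIso (CommRingCat.of B)).inv).2 y
  exact congrArg _ (injective_AK (R := Γ(X, U)) (A := B) (AK := Γ((gV X (chart hU B)).left, ⊤)) h)

/-- A unit of a chart as a section of `G_m`. -/
def gmC (b : Aˣ) : ToType ((EtCoh.Gm X).obj.obj (op (chart hU A))) :=
  ULift.up (Additive.ofMul (Units.map (Scheme.ΓSpecIso (CommRingCat.of A)).inv.hom.toMonoidHom b))

theorem jVal_gmC (b : Aˣ) : jVal X ((ι₀ X).hom.app (op (chart hU A)) (gmC hU A b)) = jA hU A (b : A) := rfl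

theorem UN_of_unitAt (q : PrimeSpectrum A) {f : ToType ((J X).obj.obj (op (chart hU A)))}
    (h : UnitAt q.asIdeal (cVal hU A f)) : UN X f (V := chart hU A) q := by
  obtain ⟨a, b, ha, hb, hab⟩ := h
  let B := Localization.Away (a * b)
  haveI : Algebra.Etale A B := Algebra.Etale.of_isLocalizationAway (a * b)
  haveI : Algebra.Etale Γ(X, U) B := Algebra.Etale.comp Γ(X, U) A B
  have hu : IsUnit (algebraMap A B a * algebraMap A B b) := by
    rw [← map_mul]
    exact IsLocalization.Away.algebraMap_isUnit (a * b)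
  have hua : IsUnit (algebraMap A B a) := isUnit_of_mul_isUnit_left hu
  have hub : IsUnit (algebraMap A B b) := isUnit_of_mul_isUnit_right hu
  let φ : A →ₐ[Γ(X, U)] B := IsScalarTower.toAlgHom Γ(X, U) A B
  obtain ⟨z, hz⟩ : q ∈ Set.range (PrimeSpectrum.comap (algebraMap A B)) := by
    rw [PrimeSpectrum.localization_away_comap_range B (a * b)]
    exact Ideal.IsPrime.mul_notMem inferInstance ha hb
  refine ⟨chart hU B, chartMap hU A φ, z, gmC hU B (hua.unit * hub.unit⁻¹), hz, jVal_inj X ?_⟩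
  rw [jVal_gmC, jVal_map]
  have h1 := congrArg ((EtCoh.bc (η X)).map (chartMap hU A φ)).left.appTop.hom hab
  rw [map_mul, algebraMap_gen, map_jA, map_jA] at h1
  refine (hub.map (jA hU B)).mul_right_cancel ?_
  show jA hU B _ * jA hU B (φ b) = _ * jA hU B (φ b)
  rw [h1, ← map_mul]
  refine congrArg (jA hU B) ?_
  show (hua.unit : B) * ((hub.unit⁻¹ : Bˣ) : B) * algebraMap A B b = algebraMap A B a
  rw [mul_assoc, IsUnit.val_inv_mul, mul_one, IsUnit.unit_spec]

theorem mem_span_of_etale {B : Type u} [CommRing B] [Algebra Γ(X, U) B] [Algebra.Etale Γ(X, U) B]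
    (φ : A →ₐ[Γ(X, U)] B) (q : Ideal A) [q.IsPrime] (Qb : Ideal B) [Qb.IsPrime] (hQ : Qb.comap φ.toRingHom = q)
    {a r : A} {w : B} (h : φ a = φ r * w) :
    algebraMap A (Localization.AtPrime q) a ∈ Ideal.span {algebraMap A (Localization.AtPrime q) r} := by
  letI : Algebra A B := φ.toRingHom.toAlgebra
  haveI : IsScalarTower Γ(X, U) A B := IsScalarTower.of_algebraMap_eq' φ.comp_algebraMap.symm
  haveI : Algebra.Etale A B := Algebra.Etale.of_restrictScalars Γ(X, U) A B
  haveI : Qb.LiesOver q := ⟨hQ.symm⟩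
  letI := Localization.AtPrime.algebraOfLiesOver q Qb
  let Aq := Localization.AtPrime q
  let Bq := Localization.AtPrime Qb
  haveI : Module.Flat B Bq := IsLocalization.flat Bq Qb.primeCompl
  haveI : Module.Flat A Bq := Module.Flat.trans A B Bq
  haveI : Module.Flat Aq Bq := (Module.flat_iff_of_isLocalization Aq q.primeCompl Bq).2 inferInstance
  haveI : IsLocalHom (algebraMap Aq Bq) := by
    rw [Localization.AtPrime.IsLiesOverAlgebra.algebraMap_eq]
    exact Localization.isLocalHom_localRingHom _ _ _ _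
  haveI : Module.FaithfullyFlat Aq Bq := Module.FaithfullyFlat.of_flat_of_isLocalHom
  rw [← Ideal.comap_map_eq_self_of_faithfullyFlat (B := Bq) (Ideal.span {algebraMap A Aq r}), Ideal.mem_comap,
    Ideal.map_span, Set.image_singleton, ← IsScalarTower.algebraMap_apply, ← IsScalarTower.algebraMap_apply,
    IsScalarTower.algebraMap_apply A B Bq, IsScalarTower.algebraMap_apply A B Bq, Ideal.mem_span_singleton]
  exact ⟨algebraMap B Bq w, by rw [← map_mul]; exact congrArg _ h⟩

theorem unitAt_of_UN (q : PrimeSpectrum A) {f : ToType ((J X).obj.obj (op (chart hU A)))}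
    (h : UN X f (V := chart hU A) q) : UnitAt q.asIdeal (cVal hU A f) := by
  haveI : IsOpenImmersion hU.fromSpec := hU.isOpenImmersion_fromSpec
  haveI : IsFractionRing Γ(X, U) X.functionField := functionField_isFractionRing_of_isAffineOpen X U hU
  obtain ⟨W, g, z, s, hz, hs⟩ := h
  obtain ⟨O, hO, hzO, -⟩ := exists_isAffineOpen_mem_and_subset (show z ∈ (⊤ : W.left.Opens) from trivial)
  haveI : IsOpenImmersion hO.fromSpec := hO.isOpenImmersion_fromSpec
  haveI := etale_left g
  let B : Type u := Γ(W.left, O)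
  let ψ : CommRingCat.of A ⟶ Γ(W.left, O) := Spec.preimage (hO.fromSpec ≫ g.left)
  have hψ : Spec.map ψ = hO.fromSpec ≫ g.left := Spec.map_preimage _
  letI : Algebra Γ(X, U) B := (ψ.hom.comp (algebraMap Γ(X, U) A)).toAlgebra
  haveI : Algebra.Etale Γ(X, U) B := RingHom.etale_algebraMap.1 (RingHom.Etale.stableUnderComposition _ _
    (RingHom.etale_algebraMap.2 inferInstance) (by
      have h : AlgebraicGeometry.Etale (Spec.map ψ) := by rw [hψ]; infer_instance
      exact (HasRingHomProperty.Spec_iff (P := @AlgebraicGeometry.Etale)).1 h))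
  let φ : A →ₐ[Γ(X, U)] B := { ψ.hom with commutes' := fun r => rfl }
  let k : chart hU B ⟶ W := MorphismProperty.Over.homMk hO.fromSpec (by
    rw [← MorphismProperty.Over.w g]
    refine (congrArg (fun t => t ≫ (chart hU A).hom) hψ).symm.trans ?_
    show Spec.map ψ ≫ Spec.map _ ≫ hU.fromSpec = Spec.map _ ≫ hU.fromSpec
    rw [← Spec.map_comp_assoc]
    rfl)
  have hk : k ≫ g = chartMap hU A φ := MorphismProperty.Over.Hom.ext hψ.symm
  obtain ⟨Qb, hQb⟩ : z ∈ Set.range hO.fromSpec.base := by rw [hO.range_fromSpec]; exact hzO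
  have hQA : Qb.asIdeal.comap φ.toRingHom = q.asIdeal := by
    have h : (Spec.map ψ).base Qb = q := by
      rw [hψ, ← hz, ← hQb]
      rfl
    exact congrArg PrimeSpectrum.asIdeal h
  let s' := (EtCoh.Gm X).obj.map k.op s
  have hs' : (ι₀ X).hom.app (op (chart hU B)) s' = (J X).obj.map (chartMap hU A φ).op f := by
    rw [← hk, op_comp, Functor.map_comp, ConcreteCategory.comp_apply, ← hs]
    exact NatTrans.naturality_apply (ι₀ X).hom k.op s
  let u : Bˣ := Units.map (Scheme.ΓSpecIso (CommRingCat.of B)).hom.hom.toMonoidHom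
    (show (Γ((chart hU B).left, ⊤))ˣ from (show ULift.{u + 1} (Additive (Γ((chart hU B).left, ⊤))ˣ) from s').down.toMul)
  have hu : jA hU B (u : B) = jVal X ((ι₀ X).hom.app (op (chart hU B)) s') := by
    show (pullback.fst (chart hU B).hom (η X)).appTop
      ((Scheme.ΓSpecIso (CommRingCat.of B)).inv ((Scheme.ΓSpecIso (CommRingCat.of B)).hom (gmVal X s'))) = _
    rw [Iso.hom_inv_id_apply]
    rfl
  obtain ⟨a, r, hr, har⟩ := exists_mul_eq Γ(X, U) (A := A) (cVal hU A f)
  let r' := algebraMap Γ(X, U) A r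
  have hB : φ a = φ r' * (u : B) := by
    refine injective_AK (R := Γ(X, U)) (A := B) (AK := Γ((gV X (chart hU B)).left, ⊤)) ?_
    rw [algebraMap_gen, map_mul, hu, hs', jVal_map, ← map_jA, ← map_jA, ← map_mul]
    refine congrArg _ ?_
    rw [← algebraMap_gen, ← har, mul_comm]
  have hB' : φ r' = φ a * ((u⁻¹ : Bˣ) : B) := by rw [hB, mul_assoc, Units.mul_inv, mul_one]
  obtain ⟨x, hx⟩ := Ideal.mem_span_singleton.1 (mem_span_of_etale A φ q.asIdeal Qb.asIdeal hQA hB)
  obtain ⟨y, hy⟩ := Ideal.mem_span_singleton.1 (mem_span_of_etale A φ q.asIdeal Qb.asIdeal hQA hB')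
  let Aq := Localization.AtPrime q.asIdeal
  haveI : Module.Flat A Aq := IsLocalization.flat Aq q.asIdeal.primeCompl
  haveI : Module.Flat Γ(X, U) Aq := Module.Flat.trans Γ(X, U) A Aq
  have hxy : x * y = 1 := by
    refine Module.Flat.isSMulRegular_of_isRegular (R := Γ(X, U)) (M := Aq) (IsRegular.of_ne_zero hr) ?_
    simp only [Algebra.smul_def, mul_one, IsScalarTower.algebraMap_apply Γ(X, U) A Aq]
    rw [← mul_assoc, ← hx, ← hy]
  obtain ⟨⟨x₁, sx⟩, hx₁⟩ := IsLocalization.surj q.asIdeal.primeCompl x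
  have hx₁' : x₁ ∉ q.asIdeal := fun hm => by
    refine (IsLocalization.AtPrime.to_map_mem_maximal_iff Aq q.asIdeal x₁).2 hm ?_
    rw [← hx₁]
    exact (IsUnit.of_mul_eq_one y hxy).mul (IsLocalization.map_units Aq sx)
  have e : algebraMap A Aq (a * sx) = algebraMap A Aq (r' * x₁) := by
    rw [map_mul, map_mul, hx, ← hx₁, mul_assoc]
  obtain ⟨⟨c, hc⟩, e'⟩ := (IsLocalization.eq_iff_exists q.asIdeal.primeCompl Aq).1 e
  refine ⟨c * x₁, c * sx, Ideal.IsPrime.mul_notMem inferInstance hc hx₁',
    Ideal.IsPrime.mul_notMem inferInstance hc sx.2, ?_⟩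
  refine (isUnit_algebraMap_AK (R := Γ(X, U)) (A := A) (AK := Γ((gV X (chart hU A)).left, ⊤)) hr).mul_right_cancel ?_
  rw [mul_right_comm, har, ← map_mul, ← map_mul]
  exact congrArg _ (by linear_combination e')

theorem UN_iff_unitAt (q : PrimeSpectrum A) (f : ToType ((J X).obj.obj (op (chart hU A)))) :
    UN X f (V := chart hU A) q ↔ UnitAt q.asIdeal (cVal hU A f) :=
  ⟨unitAt_of_UN hU A q, UN_of_unitAt hU A q⟩

/-- Every point of an étale scheme lies in a chart over a given affine open. -/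
theorem exists_chart (V : X.Etale) (v : V.left) (hv : V.hom.base v ∈ U) :
    ∃ (A : Type u) (_ : CommRing A) (_ : Algebra Γ(X, U) A) (_ : Algebra.Etale Γ(X, U) A)
      (k : chart hU A ⟶ V) (q : PrimeSpectrum A), k.left.base q = v ∧ IsOpenImmersion k.left := by
  haveI : IsOpenImmersion hU.fromSpec := hU.isOpenImmersion_fromSpec
  haveI : AlgebraicGeometry.Etale V.hom := V.prop
  obtain ⟨O, hO, hvO, hOU⟩ := exists_isAffineOpen_mem_and_subset (show v ∈ V.hom ⁻¹ᵁ U from hv)
  haveI : IsOpenImmersion hO.fromSpec := hO.isOpenImmersion_fromSpec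
  let B : Type u := Γ(V.left, O)
  let ψ : Γ(X, U) ⟶ Γ(V.left, O) := V.hom.appLE U O hOU
  have hψ : Spec.map ψ ≫ hU.fromSpec = hO.fromSpec ≫ V.hom := hU.SpecMap_appLE_fromSpec V.hom hO hOU
  letI : Algebra Γ(X, U) B := ψ.hom.toAlgebra
  haveI : Algebra.Etale Γ(X, U) B := RingHom.etale_algebraMap.1 (by
    haveI h1 : AlgebraicGeometry.Etale (Spec.map ψ ≫ hU.fromSpec) := by rw [hψ]; infer_instance
    exact (HasRingHomProperty.Spec_iff (P := @AlgebraicGeometry.Etale)).1
      (AlgebraicGeometry.Etale.of_comp (Spec.map ψ) hU.fromSpec))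
  obtain ⟨q, hq⟩ : v ∈ Set.range hO.fromSpec.base := by rw [hO.range_fromSpec]; exact hvO
  exact ⟨B, inferInstance, inferInstance, inferInstance, MorphismProperty.Over.homMk hO.fromSpec hψ.symm, q, hq,
    hO.isOpenImmersion_fromSpec⟩

/-- Sections injective on the generic fibre. -/
theorem mono_ι₀ : Mono (ι₀ X) := by
  haveI : ∀ V : X.Etaleᵒᵖ, Mono ((ι₀ X).hom.app V) := fun ⟨V⟩ => by
    rw [AddCommGrpCat.mono_iff_injective]
    intro s t h
    refine eq_of_germ (EtCoh.Gm X) s t fun Ω _ _ ξ v => ?_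
    obtain ⟨U, hU, hvU, -⟩ := exists_isAffineOpen_mem_and_subset (show V.hom.base v.pt ∈ (⊤ : X.Opens) from trivial)
    haveI : Nonempty U := ⟨⟨_, hvU⟩⟩
    obtain ⟨A, _, _, _, k, q, hq, _⟩ := exists_chart hU V v.pt hvU
    haveI := etale_left k
    obtain ⟨l, hl, -⟩ := Scheme.exists_fac_of_etale_of_isSepClosed k.left v.hom q hq
    let q' : Fib ξ (chart hU A) := Fib.mk l (by rw [← MorphismProperty.Over.w k, ← Category.assoc, hl, Fib.w])
    have hv : q'.map k = v := Fib.ext ((Fib.map_hom k q').trans hl)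
    rw [← hv, ← germ_res_apply, ← germ_res_apply]
    refine congrArg (germ ξ (EtCoh.Gm X) (chart hU A) q') (gmVal_injective X (injective_appTop_fst hU ?_))
    rw [← jVal_ι₀, ← jVal_ι₀, NatTrans.naturality_apply, NatTrans.naturality_apply, h]
  haveI : Mono (ι₀ X).hom := NatTrans.mono_of_mono_app _
  exact (sheafToPresheaf X.smallEtaleTopology AddCommGrpCat.{u + 1}).mono_of_mono_map this

end DivSeqLib

end
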