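import Mathlib.CategoryTheory.Abelian.GrothendieckCategory.Subobject
import Mathlib.CategoryTheory.Abelian.GrothendieckAxioms.Basic
import Mathlib.CategoryTheory.Limits.Constructions.Filtered
import Mathlib.CategoryTheory.Limits.Connected
import Mathlib.CategoryTheory.Filtered.Connected
import Mathlib.CategoryTheory.Preadditive.Biproducts
import Mathlib.CategoryTheory.Abelian.Basic

/-!
# The map from a coproduct to the product
-/

set_option autoImplicit false
set_option linter.style.haveILetI false
set_option backward.isDefEq.respectTransparency false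

universe w v u

open CategoryTheory CategoryTheory.Limits CoproductsFromFiniteFiltered

noncomputable section

namespace DivSeqLib

variable {A : Type u} [Category.{v} A] [Abelian A] [HasColimitsOfSize.{w, w} A] [HasLimitsOfSize.{w, w} A]

open scoped Classical in
/-- The canonical map from a coproduct to the product. -/
def sigmaToProd {ι : Type w} (F : ι → A) : ∐ F ⟶ ∏ᶜ F :=
  Sigma.desc fun i => Pi.lift fun j => if h : i = j then eqToHom (congrArg F h) else 0

variable {ι : Type w} (F : ι → A)

@[reassoc]
theorem ι_sigmaToProd_self (i : ι) : Sigma.ι F i ≫ sigmaToProd F ≫ Pi.π F i = 𝟙 _ := by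
  rw [sigmaToProd, Sigma.ι_desc_assoc, Pi.lift_π, dif_pos rfl, eqToHom_refl]

@[reassoc]
theorem ι_sigmaToProd_ne {i j : ι} (h : i ≠ j) : Sigma.ι F i ≫ sigmaToProd F ≫ Pi.π F j = 0 := by
  rw [sigmaToProd, Sigma.ι_desc_assoc, Pi.lift_π, dif_neg h]

variable [AB5OfSize.{w, w} A]

theorem mono_sigma_desc {Y : A} (a : ∐ F ⟶ Y)
    (h : ∀ S : Finset (Discrete ι), Mono ((finiteSubcoproductsCocone F).ι.app S ≫ a)) : Mono a := by
  haveI := IsFiltered.isConnected (Finset (Discrete ι))
  let α : liftToFinsetObj (Discrete.functor F) ⟶ (Functor.const _).obj Y :=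
    { app := fun S => (finiteSubcoproductsCocone F).ι.app S ≫ a
      naturality := fun S S' φ => by
        rw [← Category.assoc, (finiteSubcoproductsCocone F).w φ]
        exact (Category.comp_id _).symm }
  haveI : ∀ S, Mono (α.app S) := h
  haveI := NatTrans.mono_of_mono_app α
  exact colim.map_mono' α (isColimitFiniteSubproductsCocone F)
    (isColimitConstCocone (Finset (Discrete ι)) Y) a (fun S => by simp [α])

theorem mono_sigmaToProd : Mono (sigmaToProd F) := by
  classical
  refine mono_sigma_desc F _ fun S => ?_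
  let r : ∏ᶜ F ⟶ ∐ fun x : {x // x ∈ S} => (Discrete.functor F).obj x.1 :=
    ∑ x : {x // x ∈ S}, Pi.π F x.1.as ≫ Sigma.ι (fun x : {x // x ∈ S} => (Discrete.functor F).obj x.1) x
  haveI : IsSplitMono ((finiteSubcoproductsCocone F).ι.app S ≫ sigmaToProd F) := ⟨⟨⟨r, by
    refine Sigma.hom_ext _ _ fun x => ?_
    refine Eq.trans ?_ (Category.comp_id _).symm
    show Sigma.ι (fun x : {x // x ∈ S} => (Discrete.functor F).obj x.1) x ≫
      ((Sigma.desc fun x : {x // x ∈ S} => Sigma.ι F x.1.as) ≫ sigmaToProd F) ≫ r = _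
    rw [Category.assoc, Sigma.ι_desc_assoc]
    simp only [r, Preadditive.comp_sum]
    refine (Finset.sum_eq_single x (fun y _ hy => ?_) (fun h => absurd (Finset.mem_univ x) h)).trans ?_
    · rw [ι_sigmaToProd_ne_assoc F (fun e => hy (Subtype.ext (Discrete.ext e.symm))), zero_comp]
    · rw [ι_sigmaToProd_self_assoc]⟩⟩⟩
  infer_instance

end DivSeqLib

end
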