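import Groth.Agent.DivSeqLib.Val
import Groth.Agent.ConstUnitLib.Sections
import Groth.Agent.EtSliceLib.Basic

/-!
# The quotient of rational functions by units near a codimension one point
-/

set_option autoImplicit false
set_option linter.style.haveILetI false
set_option linter.unusedSectionVars false
set_option backward.isDefEq.respectTransparency false
set_option backward.isDefEq.respectTransparency.types false
set_option synthInstance.maxHeartbeats 400000
set_option maxHeartbeats 2000000

universe u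

open CategoryTheory CategoryTheory.Limits AlgebraicGeometry Opposite
open Groth.Agent.EtShLib MuConstLib ConstUnitLib

noncomputable section

namespace DivSeqLib

variable {X : Scheme.{u}} [IsIntegral X]

/-- The codimension one points. -/
abbrev CPt (X : Scheme.{u}) : Type u := {x : X // ringKrullDim (X.presheaf.stalk x) = 1}

/-- The inclusion of a point. -/
abbrev ix (x : X) : Spec (X.residueField x) ⟶ X := X.fromSpecResidueField x

/-- The quotient pulled back to a point. -/
abbrev G (x : X) : EtCoh.Ab (Spec (X.residueField x)) := (EtCoh.pull (ix x)).obj (Q X)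

/-- The pulled back terminal object. -/
abbrev Tx (x : X) : (Spec (X.residueField x)).Etale := (EtCoh.bc (ix x)).obj (EtCoh.top X)

/-- It is terminal. -/
abbrev hTx (x : X) : IsTerminal (Tx x) := EtCore.bcTopIsTerminal (ix x)

/-- The unit. -/
abbrev ux (x : X) : Q X ⟶ (EtCoh.push (ix x)).obj (G x) := (EtCoh.pullPushAdj (ix x)).unit.app (Q X)

/-- The class of a rational function near `x`. -/
def ηx (x : X) (π : X.functionFieldˣ) :
    AddCommGrpCat.of (ULift.{u + 1} ℤ) ⟶ (G x).obj.obj (op (Tx x)) :=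
  EtSliceLib.intHom ((ux x).hom.app (op (EtCoh.top X)) ((π₀ X).hom.app (op (EtCoh.top X)) (secV X (EtCoh.top X) π)))

theorem ηx_apply (x : X) (π : X.functionFieldˣ) (m : ULift.{u + 1} ℤ) :
    ηx x π m = (ux x).hom.app (op (EtCoh.top X))
      ((π₀ X).hom.app (op (EtCoh.top X)) (m.down • secV X (EtCoh.top X) π)) := by
  rw [map_zsmul, map_zsmul]
  rfl

theorem cSec_ηx (x : X) (π : X.functionFieldˣ) (W : X.Etale) (m : ULift.{u + 1} ℤ) :
    cSec (hTx x) (ηx x π) ((EtCoh.bc (ix x)).obj W) m =
      (ux x).hom.app (op W) ((π₀ X).hom.app (op W) (m.down • secV X W π)) := by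
  dsimp only [cSec]
  rw [← (hTx x).hom_ext ((EtCoh.bc (ix x)).map ((EtCore.topIsTerminal X).from W)) ((hTx x).from _), ηx_apply,
    ← secV_res X ((EtCore.topIsTerminal X).from W) π, ← map_zsmul ((J X).obj.map _).hom,
    NatTrans.naturality_apply, NatTrans.naturality_apply]
  rfl

theorem fib_proj_pt {x : X} {Ω : Type u} [Field Ω] [IsSepClosed Ω]
    {ξ : Spec (CommRingCat.of Ω) ⟶ Spec (X.residueField x)} {W : X.Etale} (v : Fib ξ ((EtCoh.bc (ix x)).obj W)) :
    (v.proj (ix x) ξ).pt = (pullback.fst W.hom (ix x)).base v.pt := rfl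

theorem hom_fst {x : X} (W : X.Etale) (z : ((EtCoh.bc (ix x)).obj W).left) :
    W.hom.base ((pullback.fst W.hom (ix x)).base z) = x := by
  have h : (ix x).base ((pullback.snd W.hom (ix x)).base z) = x := by
    have : (ix x).base ((pullback.snd W.hom (ix x)).base z) ∈ Set.range (ix x).base := ⟨_, rfl⟩
    rwa [Scheme.range_fromSpecResidueField, Set.mem_singleton_iff] at this
  exact (congrArg (fun t : pullback W.hom (ix x) ⟶ X => t.base z) pullback.condition).trans h

theorem stalkPull_germ {x : X} {Ω : Type u} [Field Ω] [IsSepClosed Ω]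
    (ξ : Spec (CommRingCat.of Ω) ⟶ Spec (X.residueField x)) (W : X.Etale) (v : Fib ξ ((EtCoh.bc (ix x)).obj W))
    (s : ToType ((Q X).obj.obj (op W))) :
    (stalkPull (ix x) ξ AddCommGrpCat.{u + 1}).hom.app (Q X) (germ (ξ ≫ ix x) (Q X) W (v.proj (ix x) ξ) s) =
      germ ξ (G x) ((EtCoh.bc (ix x)).obj W) v ((ux x).hom.app (op W) s) := by
  have e := germ_stalkPull (ix x) ξ AddCommGrpCat.{u + 1} (Q X) W (v.proj (ix x) ξ)
  rw [Fib.lift_proj] at e
  rw [← ConcreteCategory.comp_apply, e]
  rfl

theorem exists_order_Q [IsLocallyNoetherian X] {x : X} {π : X.functionFieldˣ} (hπ : IsParam x π)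
    {Ω : Type u} [Field Ω] [IsSepClosed Ω] {ξ : Spec (CommRingCat.of Ω) ⟶ X} {W : X.Etale} (w : Fib ξ W)
    (hw : W.hom.base w.pt = x) (s : ToType ((Q X).obj.obj (op W))) :
    ∃ m : ℤ, germ ξ (Q X) W w s = germ ξ (Q X) W w ((π₀ X).hom.app (op W) (m • secV X W π)) := by
  obtain ⟨W', φ, ⟨z, hz⟩, f, hf⟩ := EtAcycLib.exists_lift (π₀ X) W s w.pt
  haveI := etale_left φ
  obtain ⟨l, hl, -⟩ := Scheme.exists_fac_of_etale_of_isSepClosed φ.left w.hom z hz
  let w' : Fib ξ W' := Fib.mk l (by rw [← MorphismProperty.Over.w φ, ← Category.assoc, hl, Fib.w])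
  have hw' : w'.map φ = w := Fib.ext ((Fib.map_hom φ w').trans hl)
  have hx : W'.hom.base w'.pt = x := by
    rw [← hw, ← hw', ← MorphismProperty.Over.w φ]
    rfl
  obtain ⟨m, hm⟩ := exists_order f w'.pt (π := π) (hx ▸ hπ)
  refine ⟨m, ?_⟩
  rw [← hw', ← germ_res_apply, ← germ_res_apply, ← NatTrans.naturality_apply (π₀ X).hom φ.op, map_zsmul,
    secV_res, ← hf]
  refine eq_of_sub_eq_zero ?_
  rw [← map_sub, ← map_sub]
  exact (germ_π₀_eq_zero_iff X _ w').2 hm

/-- The pulled back quotient is constant. -/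
theorem isCst_G [IsLocallyNoetherian X] {x : X} {π : X.functionFieldˣ} (hπ : IsParam x π) :
    IsCst (G x) (Tx x) (ηx x π) := by
  intro Ω _ _ ξ u
  rw [← isIso_iff_of_reflects_iso _ (forget AddCommGrpCat.{u + 1}), isIso_iff_bijective]
  let u' := u.proj (ix x) ξ
  have hpt : (EtCoh.top X).hom.base u'.pt = x := hom_fst (EtCoh.top X) u.pt
  let S := (stalkPull (ix x) ξ AddCommGrpCat.{u + 1}).hom.app (Q X)
  have hb := ConcreteCategory.bijective_of_isIso S
  have he : ∀ m, (ηx x π ≫ germ ξ (G x) (Tx x) u) m =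
      S (germ (ξ ≫ ix x) (Q X) (EtCoh.top X) u' ((π₀ X).hom.app (op (EtCoh.top X)) (m.down • secV X (EtCoh.top X) π))) :=
    fun m => by
      rw [ConcreteCategory.comp_apply, ηx_apply, stalkPull_germ]
  constructor
  · intro a b h
    have h' := hb.1 ((he a).symm.trans (h.trans (he b)))
    rw [← sub_eq_zero, ← map_sub, ← map_sub, ← sub_smul, germ_π₀_eq_zero_iff] at h'
    exact ULift.ext _ _ (sub_eq_zero.1 (order_unique u'.pt (π := π) (hpt.symm ▸ hπ) h'))
  · intro p
    obtain ⟨q, rfl⟩ := hb.2 p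
    obtain ⟨W, g, w, s, hw, rfl⟩ := exists_germ_below (ξ ≫ ix x) q (EtCoh.top X) u'
    have hwx : W.hom.base w.pt = x := by
      refine Eq.trans ?_ hpt
      rw [← hw, ← MorphismProperty.Over.w g]
      rfl
    obtain ⟨m, hm⟩ := exists_order_Q hπ w hwx s
    refine ⟨⟨m⟩, (he ⟨m⟩).trans (congrArg S ?_)⟩
    rw [hm, ← hw, ← germ_res_apply, ← NatTrans.naturality_apply, map_zsmul, secV_res]

/-- The chosen parameter. -/
def param [IsLocallyNoetherian X] (hfact : Factorial X) (x : CPt X) : X.functionFieldˣ :=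
  (exists_param hfact x.1 x.2).choose

theorem isParam_param [IsLocallyNoetherian X] (hfact : Factorial X) (x : CPt X) : IsParam x.1 (param hfact x) :=
  (exists_param hfact x.1 x.2).choose_spec

variable [IsLocallyNoetherian X] (hfact : Factorial X)

/-- The skyscraper at a codimension one point. -/
abbrev K (x : CPt X) : EtCoh.Ab X := (EtCoh.push (ix x.1)).obj (G x.1)

/-- The values of a section of a skyscraper. -/
def sval {x : CPt X} {V : X.Etale} (s : ToType ((K x).obj.obj (op V))) (z : ((EtCoh.bc (ix x.1)).obj V).left) : ℤ :=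
  (val (hT := hTx x.1) (isCst_G (isParam_param hfact x)) (W := (EtCoh.bc (ix x.1)).obj V) s z).down

theorem sval_ext {x : CPt X} {V : X.Etale} {s t : ToType ((K x).obj.obj (op V))}
    (h : ∀ z, sval hfact s z = sval hfact t z) : s = t :=
  val_ext (hT := hTx x.1) (isCst_G (isParam_param hfact x)) fun z => ULift.ext _ _ (h z)

theorem sval_add {x : CPt X} {V : X.Etale} (s t : ToType ((K x).obj.obj (op V)))
    (z : ((EtCoh.bc (ix x.1)).obj V).left) : sval hfact (s + t) z = sval hfact s z + sval hfact t z := by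
  obtain ⟨Ω, _, _, ξ, v, rfl⟩ := exists_geometric z
  have h := isCst_G (isParam_param hfact x)
  refine congrArg ULift.down (val_eq_of_germ h v
    (m := val (hT := hTx x.1) h s v.pt + val (hT := hTx x.1) h t v.pt) ?_)
  have e : cSec (hTx x.1) (ηx x.1 (param hfact x)) ((EtCoh.bc (ix x.1)).obj V)
      (val (hT := hTx x.1) h s v.pt + val (hT := hTx x.1) h t v.pt) =
      cSec (hTx x.1) (ηx x.1 (param hfact x)) _ (val (hT := hTx x.1) h s v.pt) +
        cSec (hTx x.1) (ηx x.1 (param hfact x)) _ (val (hT := hTx x.1) h t v.pt) := by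
    dsimp only [cSec]
    rw [map_add, map_add]
  rw [e, map_add, map_add, ← germ_val h s v, ← germ_val h t v]

theorem sval_zero {x : CPt X} {V : X.Etale} (z : ((EtCoh.bc (ix x.1)).obj V).left) :
    sval hfact (0 : ToType ((K x).obj.obj (op V))) z = 0 := by
  have h := sval_add hfact (0 : ToType ((K x).obj.obj (op V))) 0 z
  rw [add_zero] at h
  exact (left_eq_add.1 h)

theorem sval_res {x : CPt X} {V W : X.Etale} (k : W ⟶ V) (s : ToType ((K x).obj.obj (op V)))
    (z : ((EtCoh.bc (ix x.1)).obj W).left) :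
    sval hfact ((K x).obj.map k.op s) z = sval hfact s (((EtCoh.bc (ix x.1)).map k).left.base z) :=
  congrArg ULift.down (val_res (hT := hTx x.1) (isCst_G (isParam_param hfact x)) ((EtCoh.bc (ix x.1)).map k) s z)

/-- The value of the unit at a point is the order. -/
theorem sval_ux {x : CPt X} {V : X.Etale} (f : ToType ((J X).obj.obj (op V)))
    (z : ((EtCoh.bc (ix x.1)).obj V).left) {m : ℤ}
    (hm : UN X (f - m • secV X V (param hfact x)) ((pullback.fst V.hom (ix x.1)).base z)) :
    sval hfact ((ux x.1).hom.app (op V) ((π₀ X).hom.app (op V) f)) z = m := by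
  obtain ⟨Ω, _, _, ξ, v, rfl⟩ := exists_geometric z
  refine congrArg ULift.down (val_eq_of_germ (isCst_G (isParam_param hfact x)) v (m := ⟨m⟩) ?_)
  rw [cSec_ηx, ← stalkPull_germ, ← stalkPull_germ]
  refine congrArg _ (eq_of_sub_eq_zero ?_)
  rw [← map_sub, ← map_sub]
  exact (germ_π₀_eq_zero_iff X (f - m • secV X V (param hfact x)) (v.proj (ix x.1) ξ)).2 hm

/-- The point over `x`. -/
theorem exists_over {x : X} {V : X.Etale} (w : V.left) (hw : V.hom.base w = x) :
    ∃ z : ((EtCoh.bc (ix x)).obj V).left, (pullback.fst V.hom (ix x)).base z = w := by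
  have : w ∈ Set.range (pullback.fst V.hom (ix x)).base := by
    rw [Scheme.Pullback.range_fst, Set.mem_preimage]
    exact (Scheme.range_fromSpecResidueField x).symm ▸ hw
  exact this

theorem over_injective {x : X} (V : X.Etale) : Function.Injective (pullback.fst V.hom (ix x)).base :=
  haveI : IsPreimmersion (pullback.fst V.hom (ix x)) :=
    MorphismProperty.pullback_fst _ _ (inferInstanceAs (IsPreimmersion (X.fromSpecResidueField x)))
  (pullback.fst V.hom (ix x)).isEmbedding.injective

end DivSeqLib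

end
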