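import Groth.Agent.DivSeqLib.Cst
import Groth.Agent.DivSeqLib.Coprod
import Groth.Agent.EtLocCohLib.ConstDev
import Mathlib.CategoryTheory.Limits.Types.Limits

/-!
# The divisor sequence
-/

set_option autoImplicit false
set_option linter.style.haveILetI false
set_option linter.unusedSectionVars false
set_option backward.isDefEq.respectTransparency false
set_option backward.isDefEq.respectTransparency.types false
set_option synthInstance.maxHeartbeats 400000
set_option maxHeartbeats 2000000

universe u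

open CategoryTheory CategoryTheory.Limits AlgebraicGeometry Opposite
open Groth.Agent.EtShLib MuConstLib ConstUnitLib

noncomputable section

namespace DivSeqLib

variable {X : Scheme.{u}} [IsIntegral X] [IsLocallyNoetherian X] (hfact : Factorial X)

theorem UN.zero {V : X.Etale} (w : V.left) : UN X (0 : ToType ((J X).obj.obj (op V))) w := by
  have h := UN_congr_ι₀ X (0 : ToType ((EtCoh.Gm X).obj.obj (op V))) w
  rwa [map_zero] at h

theorem UN.zsmul {V : X.Etale} {f : ToType ((J X).obj.obj (op V))} {w : V.left} (hf : UN X f w) (m : ℤ) :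
    UN X (m • f) w := by
  obtain ⟨Ω, _, _, ξ, v, rfl⟩ := exists_geometric w
  rw [← germ_π₀_eq_zero_iff] at hf ⊢
  rw [map_zsmul, map_zsmul, hf, smul_zero]

theorem UN.sum {ι : Type*} {V : X.Etale} {w : V.left} (S : Finset ι) (g : ι → ToType ((J X).obj.obj (op V)))
    (h : ∀ i ∈ S, UN X (g i) w) : UN X (∑ i ∈ S, g i) w :=
  Finset.sum_induction g (fun t => UN X t w) (fun _ _ => UN.add X) (UN.zero w) h

open scoped Classical in
/-- The value at a point of `V`. -/
def mval {x : CPt X} {V : X.Etale} (s : ToType ((K x).obj.obj (op V))) (w : V.left) : ℤ :=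
  if h : V.hom.base w = x.1 then sval hfact s (exists_over w h).choose else 0

theorem mval_fst {x : CPt X} {V : X.Etale} (s : ToType ((K x).obj.obj (op V)))
    (z : ((EtCoh.bc (ix x.1)).obj V).left) :
    mval hfact s ((pullback.fst V.hom (ix x.1)).base z) = sval hfact s z := by
  rw [mval, dif_pos (hom_fst V z)]
  exact congrArg (sval hfact s) (over_injective V
    (exists_over ((pullback.fst V.hom (ix x.1)).base z) (hom_fst V z)).choose_spec)

theorem mval_ext {x : CPt X} {V : X.Etale} {s t : ToType ((K x).obj.obj (op V))}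
    (h : ∀ w, V.hom.base w = x.1 → mval hfact s w = mval hfact t w) : s = t :=
  sval_ext hfact fun z => by rw [← mval_fst, ← mval_fst]; exact h _ (hom_fst V z)

theorem mval_zero {x : CPt X} {V : X.Etale} (w : V.left) :
    mval hfact (0 : ToType ((K x).obj.obj (op V))) w = 0 := by
  unfold mval
  split_ifs
  · exact sval_zero hfact _
  · rfl

theorem mval_res {x : CPt X} {V W : X.Etale} (k : W ⟶ V) (s : ToType ((K x).obj.obj (op V))) (w : W.left) :
    mval hfact ((K x).obj.map k.op s) w = mval hfact s (k.left.base w) := by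
  have e : V.hom.base (k.left.base w) = W.hom.base w := by
    rw [← MorphismProperty.Over.w k]
    rfl
  by_cases h : W.hom.base w = x.1
  · obtain ⟨z, rfl⟩ := exists_over (x := x.1) w h
    rw [mval_fst, sval_res, ← mval_fst]
    exact congrArg (mval hfact s)
      (congrArg (fun t => t.base z) (EtCoh.isPullback_bc_map (ix x.1) k).w)
  · rw [mval, dif_neg h, mval, dif_neg (e.symm ▸ h)]

/-- The components of a class. -/
abbrev comp (x : CPt X) {V : X.Etale} (f : ToType ((J X).obj.obj (op V))) : ToType ((K x).obj.obj (op V)) :=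
  (ux x.1).hom.app (op V) ((π₀ X).hom.app (op V) f)

theorem mval_comp {x : CPt X} {V : X.Etale} (f : ToType ((J X).obj.obj (op V))) (w : V.left)
    (hw : V.hom.base w = x.1) {m : ℤ} (hm : UN X (f - m • secV X V (param hfact x)) w) :
    mval hfact (comp x f) w = m := by
  obtain ⟨z, rfl⟩ := exists_over (x := x.1) w hw
  rw [mval_fst]
  exact sval_ux hfact f z hm

theorem UN_of_mval {x : CPt X} {V : X.Etale} (f : ToType ((J X).obj.obj (op V))) (w : V.left)
    (hw : V.hom.base w = x.1) (h0 : mval hfact (comp x f) w = 0) : UN X f w := by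
  obtain ⟨m, hm⟩ := exists_order f w (π := param hfact x) (by rw [hw]; exact isParam_param hfact x)
  rw [mval_comp hfact f w hw hm] at h0
  rwa [h0, zero_zsmul, sub_zero] at hm

theorem mval_comp_of_UN {x : CPt X} {V : X.Etale} (f : ToType ((J X).obj.obj (op V))) (w : V.left)
    (hw : V.hom.base w = x.1) (h : UN X f w) : mval hfact (comp x f) w = 0 :=
  mval_comp hfact f w hw (by rwa [zero_zsmul, sub_zero])

/-- The morphism to the product. -/
def divProd : Q X ⟶ ∏ᶜ fun x : CPt X => K x := Pi.lift fun x => ux x.1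

theorem divProd_π (x : CPt X) : (divProd (X := X)) ≫ Pi.π (fun x : CPt X => K x) x = ux x.1 := Pi.lift_π _ _

theorem π_divProd (x : CPt X) {V : X.Etale} (q : ToType ((Q X).obj.obj (op V))) :
    (Pi.π (fun x : CPt X => K x) x).hom.app (op V) ((divProd (X := X)).hom.app (op V) q) = (ux x.1).hom.app (op V) q :=
  congrArg (fun t : Q X ⟶ K x => t.hom.app (op V) q) (divProd_π x)

theorem prod_ext {V : X.Etale} {a b : ToType ((∏ᶜ fun x : CPt X => K x).obj.obj (op V))}
    (h : ∀ x, (Pi.π (fun x : CPt X => K x) x).hom.app (op V) a = (Pi.π (fun x : CPt X => K x) x).hom.app (op V) b) :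
    a = b := by
  let E := sheafToPresheaf X.smallEtaleTopology AddCommGrpCat.{u + 1} ⋙
    (evaluation X.Etaleᵒᵖ AddCommGrpCat.{u + 1}).obj (op V)
  exact Concrete.isLimit_ext _ (isLimitOfPreserves E (productIsProduct fun x : CPt X => K x)) a b fun ⟨x⟩ => h x

/-- The map from the coproduct to the product. -/
abbrev κ : (∐ fun x : CPt X => K x) ⟶ ∏ᶜ fun x : CPt X => K x := sigmaToProd fun x : CPt X => K x

open scoped Classical in
theorem π_κ_ι (x y : CPt X) {V : X.Etale} (s : ToType ((K x).obj.obj (op V))) (w : V.left) :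
    mval hfact ((Pi.π (fun x : CPt X => K x) y).hom.app (op V)
      ((κ (X := X)).hom.app (op V) ((Sigma.ι (fun x : CPt X => K x) x).hom.app (op V) s))) w =
      if x = y then mval hfact s w else 0 := by
  by_cases h : x = y
  · subst h
    rw [if_pos rfl]
    exact congrArg (fun t => mval hfact t w)
      (congrArg (fun t : K x ⟶ K x => t.hom.app (op V) s) (ι_sigmaToProd_self (fun x : CPt X => K x) x))
  · rw [if_neg h]
    exact (congrArg (fun t => mval hfact t w)
      (congrArg (fun t : K x ⟶ K y => t.hom.app (op V) s) (ι_sigmaToProd_ne (fun x : CPt X => K x) h))).trans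
      (mval_zero hfact w)

theorem exists_fib_below {Ω : Type u} [Field Ω] [IsSepClosed Ω] {ξ : Spec (CommRingCat.of Ω) ⟶ X} {W V : X.Etale}
    (v : Fib ξ V) (g : W ⟶ V) (z : W.left) (hz : g.left.base z = v.pt) : ∃ z' : Fib ξ W, z'.map g = v := by
  haveI := etale_left g
  obtain ⟨l, hl, -⟩ := Scheme.exists_fac_of_etale_of_isSepClosed g.left v.hom z hz
  exact ⟨Fib.mk l (by rw [← MorphismProperty.Over.w g, ← Category.assoc, hl, Fib.w]),
    Fib.ext ((Fib.map_hom g _).trans hl)⟩

include hfact in
theorem mono_divProd : Mono (divProd (X := X)) := by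
  haveI : ∀ V : X.Etaleᵒᵖ, Mono ((divProd (X := X)).hom.app V) := fun ⟨V⟩ => by
    rw [AddCommGrpCat.mono_iff_injective, injective_iff_map_eq_zero]
    intro q hq
    refine eq_of_germ (Q X) q 0 fun Ω _ _ ξ v => ?_
    obtain ⟨W, g, ⟨z, hz⟩, f, hf⟩ := EtAcycLib.exists_lift (π₀ X) V q v.pt
    obtain ⟨z', rfl⟩ := exists_fib_below v g z hz
    rw [← germ_res_apply, ← hf, map_zero, germ_π₀_eq_zero_iff]
    refine UN_of_codim1 hfact f z'.pt fun w _ hw => ?_
    let x : CPt X := ⟨W.hom.base w, hw⟩
    refine UN_of_mval hfact (x := x) f w rfl ?_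
    have h1 : comp x f = 0 := by
      show (ux x.1).hom.app (op W) ((π₀ X).hom.app (op W) f) = 0
      rw [hf, NatTrans.naturality_apply, ← π_divProd x, hq, map_zero, map_zero]
    rw [h1, mval_zero]
  haveI : Mono (divProd (X := X)).hom := NatTrans.mono_of_mono_app _
  exact (sheafToPresheaf X.smallEtaleTopology AddCommGrpCat.{u + 1}).mono_of_mono_map this

include hfact in
theorem divProd_comp : (divProd (X := X)) ≫ cokernel.π (κ (X := X)) = 0 := by
  apply Sheaf.hom_ext
  ext ⟨V⟩ q
  refine res_ext (cokernel (κ (X := X))) _ _ fun y => ?_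
  obtain ⟨W, g, ⟨z, hz⟩, f, hf⟩ := EtAcycLib.exists_lift (π₀ X) V q y
  obtain ⟨U, hU, hzU, -⟩ := exists_isAffineOpen_mem_and_subset (show W.hom.base z ∈ (⊤ : X.Opens) from trivial)
  haveI : Nonempty U := ⟨⟨_, hzU⟩⟩
  obtain ⟨A, _, _, _, k, p, hp, _⟩ := exists_chart hU W z hzU
  refine ⟨chart hU A, k ≫ g, ⟨p, ?_⟩, ?_⟩
  · rw [← hz, ← hp]
    rfl
  let f' := (J X).obj.map k.op f
  classical
  have hS := finite_not_UN hU A hfact f'
  let T : Finset (CPt X) := (hS.toFinset.attach).image
    fun p => ⟨(chart hU A).hom.base p.1, (hS.mem_toFinset.1 p.2).1⟩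
  let c : ToType ((∐ fun x : CPt X => K x).obj.obj (op (chart hU A))) :=
    ∑ x ∈ T, (Sigma.ι (fun x : CPt X => K x) x).hom.app (op (chart hU A)) (comp x f')
  have hc : (κ (X := X)).hom.app (op (chart hU A)) c =
      (divProd (X := X)).hom.app (op (chart hU A)) ((π₀ X).hom.app (op (chart hU A)) f') := by
    refine prod_ext fun y => ?_
    rw [π_divProd, map_sum, map_sum]
    refine mval_ext hfact fun w hw => ?_
    by_cases hy : y ∈ T
    · rw [Finset.sum_eq_single y (fun x _ hxy => mval_ext hfact fun w' _ => by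
        rw [π_κ_ι, if_neg hxy, mval_zero]) (fun h => absurd hy h), π_κ_ι, if_pos rfl]
    · rw [Finset.sum_eq_zero fun x hx => mval_ext hfact fun w' _ => by
        rw [π_κ_ι, if_neg (fun e => hy (by rw [← e]; exact hx)), mval_zero], mval_zero]
      refine (mval_comp_of_UN hfact f' w hw (not_not.1 fun hn => hy ?_)).symm
      have hw' : Codim1 (X := X) ((chart hU A).hom.base w) := by rw [hw]; exact y.2
      refine Finset.mem_image.2 ⟨⟨w, hS.mem_toFinset.2 ⟨hw', hn⟩⟩, Finset.mem_attach _ _, Subtype.ext hw⟩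
  rw [← NatTrans.naturality_apply, ← NatTrans.naturality_apply]
  show (cokernel.π (κ (X := X))).hom.app (op (chart hU A))
      ((divProd (X := X)).hom.app (op (chart hU A)) ((Q X).obj.map (k ≫ g).op q)) =
    (0 : Q X ⟶ cokernel (κ (X := X))).hom.app (op (chart hU A)) ((Q X).obj.map (k ≫ g).op q)
  have he : (Q X).obj.map (k ≫ g).op q = (π₀ X).hom.app (op (chart hU A)) f' := by
    rw [op_comp, Functor.map_comp, ConcreteCategory.comp_apply, ← hf, NatTrans.naturality_apply]
  rw [he, ← hc]
  exact congrArg (fun t : (∐ fun x : CPt X => K x) ⟶ cokernel (κ (X := X)) => t.hom.app (op (chart hU A)) c)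
    (cokernel.condition _)

/-- The morphism to the coproduct. -/
def divMap : Q X ⟶ ∐ fun x : CPt X => K x :=
  haveI : Mono (κ (X := X)) := mono_sigmaToProd _
  Abelian.monoLift (κ (X := X)) divProd (divProd_comp hfact)

theorem divMap_κ : divMap hfact ≫ κ (X := X) = divProd :=
  haveI : Mono (κ (X := X)) := mono_sigmaToProd _
  Abelian.monoLift_comp (κ (X := X)) divProd (divProd_comp hfact)

theorem mono_divMap : Mono (divMap hfact) := by
  haveI := mono_divProd hfact
  haveI : Mono (divMap hfact ≫ κ (X := X)) := by rw [divMap_κ]; infer_instance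
  exact mono_of_mono (divMap hfact) (κ (X := X))

theorem injective_κ (V : X.Etale) : Function.Injective ((κ (X := X)).hom.app (op V)) := by
  haveI : Mono (κ (X := X)) := mono_sigmaToProd _
  haveI : Mono ((sheafToPresheaf X.smallEtaleTopology AddCommGrpCat.{u + 1}).map (κ (X := X))) := inferInstance
  exact (AddCommGrpCat.mono_iff_injective _).1
    (inferInstanceAs (Mono (((sheafToPresheaf X.smallEtaleTopology AddCommGrpCat.{u + 1}).map (κ (X := X))).app (op V))))

/-- An open piece of an étale object. -/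
def openSub (V : X.Etale) (O : V.left.Opens) : X.Etale :=
  MorphismProperty.Over.mk ⊤ (O.ι ≫ V.hom)
    (MorphismProperty.IsStableUnderComposition.comp_mem _ _ (inferInstanceAs (AlgebraicGeometry.Etale O.ι)) V.prop)

/-- Its inclusion. -/
def openIncl (V : X.Etale) (O : V.left.Opens) : openSub V O ⟶ V := MorphismProperty.Over.homMk O.ι rfl

theorem exists_avoid {V : X.Etale} (q : V.left) (S : Set V.left) (hS : S.Finite) :
    ∃ O : V.left.Opens, q ∈ O ∧ ∀ p ∈ S, p ∈ O → p ⤳ q := by
  let C : Set V.left := ⋃ p ∈ {p ∈ S | ¬ p ⤳ q}, closure {p}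
  have hC : IsClosed C := (hS.subset fun _ hp => hp.1).isClosed_biUnion fun _ _ => isClosed_closure
  refine ⟨⟨Cᶜ, hC.isOpen_compl⟩, fun hq => ?_, fun p hp hpO => ?_⟩
  · obtain ⟨p, hp, hq'⟩ := Set.mem_iUnion₂.1 hq
    exact hp.2 (specializes_iff_mem_closure.2 hq')
  · by_contra hn
    exact hpO (Set.mem_iUnion₂.2 ⟨p, ⟨hp, hn⟩, subset_closure rfl⟩)

theorem finite_over {U : X.Opens} (hU : IsAffineOpen U) [Nonempty U] (A : Type u) [CommRing A]
    [Algebra Γ(X, U) A] [Algebra.Etale Γ(X, U) A] (x : X) :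
    {p : PrimeSpectrum A | (chart hU A).hom.base p = x}.Finite := by
  rcases Set.eq_empty_or_nonempty {p : PrimeSpectrum A | (chart hU A).hom.base p = x} with h | ⟨p₀, hp₀⟩
  · rw [h]
    exact Set.finite_empty
  · refine (Algebra.QuasiFinite.finite_comap_preimage_singleton (R := Γ(X, U)) (S := A)
      (PrimeSpectrum.comap (algebraMap Γ(X, U) A) p₀)).subset fun p hp => ?_
    haveI : IsOpenImmersion hU.fromSpec := hU.isOpenImmersion_fromSpec
    exact hU.fromSpec.isOpenEmbedding.injective ((hp : (chart hU A).hom.base p = x).trans hp₀.symm)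

theorem exists_sum_eq {x : CPt X} {V : X.Etale} (s : ToType ((K x).obj.obj (op V))) (y : V.left) :
    ∃ (W : X.Etale) (g : W ⟶ V) (z : W.left) (F : ToType ((J X).obj.obj (op W))), g.left.base z = y ∧
      (divMap hfact).hom.app (op W) ((π₀ X).hom.app (op W) F) =
        (Sigma.ι (fun x : CPt X => K x) x).hom.app (op W) ((K x).obj.map g.op s) := by
  classical
  obtain ⟨U, hU, hyU, -⟩ := exists_isAffineOpen_mem_and_subset (show V.hom.base y ∈ (⊤ : X.Opens) from trivial)
  haveI : Nonempty U := ⟨⟨_, hyU⟩⟩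
  obtain ⟨A, _, _, _, k, q, hq, _⟩ := exists_chart hU V y hyU
  have hS₁ : {p : PrimeSpectrum A | (chart hU A).hom.base p = x.1 ∧ p ⤳ q}.Finite :=
    (finite_over hU A x.1).subset fun p hp => hp.1
  let S₁ := hS₁.toFinset
  have heq : ∀ p : {p // p ∈ S₁}, ∃ (W : X.Etale) (g : W ⟶ chart hU A) (z : W.left)
      (f : ToType ((J X).obj.obj (op W))), IsOpenImmersion g.left ∧ g.left.base z = q ∧
      ∀ z' : W.left, z' ⤳ z → Codim1 (X := X) (W.hom.base z') →
        (g.left.base z' = p.1 → UN X (f - secV X W (param hfact x)) z') ∧ (g.left.base z' ≠ p.1 → UN X f z') :=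
    fun p => exists_equation_sec hfact (V := chart hU A) (w := q) (w₁ := p.1) (hS₁.mem_toFinset.1 p.2).2
      (π := param hfact x) (by rw [(hS₁.mem_toFinset.1 p.2).1]; exact isParam_param hfact x)
      (by rw [(hS₁.mem_toFinset.1 p.2).1]; exact x.2)
  choose Wp gp zp fp hoi hzp heqn using heq
  let O₁ : (chart hU A).left.Opens :=
    ⟨⋂ p, Set.range (gp p).left.base, isOpen_iInter_of_finite fun p =>
      (haveI := hoi p; (gp p).left.isOpenEmbedding.isOpen_range)⟩
  have hq₁ : q ∈ O₁ := Set.mem_iInter.2 fun p => ⟨zp p, hzp p⟩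
  obtain ⟨A₂, _, _, _, k₂, q₂, hq₂, hk₂⟩ := exists_chart hU (openSub (chart hU A) O₁) ⟨q, hq₁⟩
    (show (chart hU A).hom.base q ∈ U from (chart_pt hU A q).1)
  let e : chart hU A₂ ⟶ chart hU A := k₂ ≫ openIncl (chart hU A) O₁
  haveI : IsOpenImmersion e.left := inferInstanceAs (IsOpenImmersion (k₂.left ≫ O₁.ι))
  have he : e.left.base q₂ = q := by
    show O₁.ι.base (k₂.left.base q₂) = q
    rw [hq₂]
    rfl
  have hlift : ∀ p, ∃ l : chart hU A₂ ⟶ Wp p, l ≫ gp p = e := fun p => by
    haveI := hoi p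
    refine ⟨MorphismProperty.Over.homMk (IsOpenImmersion.lift (gp p).left e.left ?_) ?_,
      MorphismProperty.Over.Hom.ext (IsOpenImmersion.lift_fac _ _ _)⟩
    · rintro _ ⟨w, rfl⟩
      exact Set.mem_iInter.1 (k₂.left.base w).2 p
    · rw [← MorphismProperty.Over.w (gp p), IsOpenImmersion.lift_fac_assoc]
      exact MorphismProperty.Over.w e
  choose l hl using hlift
  let f' : {p // p ∈ S₁} → ToType ((J X).obj.obj (op (chart hU A₂))) := fun p => (J X).obj.map (l p).op (fp p)
  let bad : Set (chart hU A₂).left := {w | (chart hU A₂).hom.base w = x.1} ∪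
    ⋃ p, {w | Codim1 (X := X) ((chart hU A₂).hom.base w) ∧ ¬ UN X (f' p) w}
  have hbad : bad.Finite := (finite_over hU A₂ x.1).union (Set.finite_iUnion fun p => finite_not_UN hU A₂ hfact (f' p))
  obtain ⟨O, hqO, hO⟩ := exists_avoid (V := chart hU A₂) q₂ bad hbad
  let W := openSub (chart hU A₂) O
  let i := openIncl (chart hU A₂) O
  let g : W ⟶ V := i ≫ e ≫ k
  let m : {p // p ∈ S₁} → ℤ := fun p => mval hfact s (k.left.base p.1)
  let F : ToType ((J X).obj.obj (op W)) := (J X).obj.map i.op (∑ p, m p • f' p)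
  refine ⟨W, g, ⟨q₂, hqO⟩, F, ?_, ?_⟩
  · show k.left.base (e.left.base q₂) = y
    rw [he, hq]
  apply injective_κ W
  refine prod_ext fun x' => mval_ext hfact fun w hw => ?_
  rw [π_κ_ι]
  have h1 : (κ (X := X)).hom.app (op W) ((divMap hfact).hom.app (op W) ((π₀ X).hom.app (op W) F)) =
      (divProd (X := X)).hom.app (op W) ((π₀ X).hom.app (op W) F) :=
    congrArg (fun t : Q X ⟶ ∏ᶜ (fun x : CPt X => K x) => t.hom.app (op W) ((π₀ X).hom.app (op W) F)) (divMap_κ hfact)
  rw [h1, π_divProd]
  let w' : (chart hU A₂).left := i.left.base w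
  have hw' : (chart hU A₂).hom.base w' = x'.1 := hw
  have hwe : (chart hU A).hom.base (e.left.base w') = x'.1 := by
    rw [← hw', ← MorphismProperty.Over.w e]
    rfl
  refine mval_comp hfact (x := x') F w hw ?_
  have hres : F - (if x = x' then mval hfact ((K x).obj.map g.op s) w else 0) • secV X W (param hfact x') =
      (J X).obj.map i.op (∑ p, m p • f' p -
        (if x = x' then mval hfact s (k.left.base (e.left.base w')) else 0) •
          secV X (chart hU A₂) (param hfact x')) := by
    rw [map_sub, map_zsmul, secV_res, mval_res]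
    rfl
  rw [hres, UN_res_iff]
  show UN X _ w'
  by_cases hsp : w' ⤳ q₂
  · have hz : ∀ p, (l p).left.base w' ⤳ zp p := fun p => by
      haveI := hoi p
      refine (gp p).left.isOpenEmbedding.isInducing.specializes_iff.1 ?_
      have e1 : ∀ t, (gp p).left.base ((l p).left.base t) = e.left.base t := fun t => by rw [← hl p]; rfl
      rw [e1, hzp, ← he]
      exact hsp.map e.left.continuous
    have hU' : ∀ p, UN X (f' p - (if e.left.base w' = p.1 then (1 : ℤ) else 0) •
        secV X (chart hU A₂) (param hfact x)) w' := fun p => by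
      have e1 : (gp p).left.base ((l p).left.base w') = e.left.base w' := by rw [← hl p]; rfl
      have hcd : Codim1 (X := X) ((Wp p).hom.base ((l p).left.base w')) := by
        have e2 : (Wp p).hom.base ((l p).left.base w') = x'.1 := by
          rw [← hw', ← MorphismProperty.Over.w (l p)]
          rfl
        rw [e2]
        exact x'.2
      have h2 := heqn p _ (hz p) hcd
      rw [e1] at h2
      split_ifs with hc
      · rw [one_zsmul, ← secV_res X (l p), ← map_sub]
        exact (UN_res_iff X (l p) _ w').2 (h2.1 hc)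
      · rw [zero_zsmul, sub_zero]
        exact (UN_res_iff X (l p) _ w').2 (h2.2 hc)
    have hsum := UN.sum Finset.univ _ fun p _ => UN.zsmul (hU' p) (m p)
    simp only [zsmul_sub, Finset.sum_sub_distrib, smul_smul, ← Finset.sum_smul] at hsum
    by_cases hx : x = x'
    · subst hx
      have hp : e.left.base w' ∈ S₁ := hS₁.mem_toFinset.2 ⟨hwe, by rw [← he]; exact hsp.map e.left.continuous⟩
      have hs : (∑ p : {p // p ∈ S₁}, m p * if e.left.base w' = p.1 then (1 : ℤ) else 0) = m ⟨_, hp⟩ := by
        rw [Finset.sum_eq_single (⟨_, hp⟩ : {p // p ∈ S₁})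
          (fun p _ hp' => by rw [if_neg (fun h => hp' (Subtype.ext h.symm)), mul_zero])
          (fun h => absurd (Finset.mem_univ _) h), if_pos rfl, mul_one]
      rw [hs] at hsum
      rw [if_pos rfl]
      exact hsum
    · rw [if_neg hx, zero_zsmul, sub_zero]
      have hs : (∑ p : {p // p ∈ S₁}, m p * if e.left.base w' = p.1 then (1 : ℤ) else 0) = 0 :=
        Finset.sum_eq_zero fun p _ => by
          rw [if_neg (fun h => hx (Subtype.ext ((hS₁.mem_toFinset.1 p.2).1.symm.trans
            ((congrArg (chart hU A).hom.base h).symm.trans hwe)))), mul_zero]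
      rw [hs, zero_zsmul, sub_zero] at hsum
      exact hsum
  · have hnb : w' ∉ bad := fun hb => hsp (hO w' hb w.2)
    have hx : x ≠ x' := fun hx => hnb (Or.inl (hw'.trans (congrArg Subtype.val hx).symm))
    rw [if_neg hx, zero_zsmul, sub_zero]
    refine UN.sum _ _ fun p _ => UN.zsmul (not_not.1 fun hn => hnb (Or.inr (Set.mem_iUnion.2 ⟨p, ?_, hn⟩))) _
    rw [hw']
    exact x'.2

theorem epi_divMap : Epi (divMap hfact) := by
  refine Preadditive.epi_of_cokernel_zero (Sigma.hom_ext _ _ fun x => ?_)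
  rw [comp_zero]
  apply Sheaf.hom_ext
  ext ⟨V⟩ s
  refine res_ext (cokernel (divMap hfact)) _ _ fun y => ?_
  obtain ⟨W, g, z, F, hz, hF⟩ := exists_sum_eq hfact s y
  refine ⟨W, g, ⟨z, hz⟩, ?_⟩
  rw [← NatTrans.naturality_apply, ← NatTrans.naturality_apply]
  show (cokernel.π (divMap hfact)).hom.app (op W)
      ((Sigma.ι (fun x : CPt X => K x) x).hom.app (op W) ((K x).obj.map g.op s)) =
    (0 : K x ⟶ cokernel (divMap hfact)).hom.app (op W) ((K x).obj.map g.op s)
  rw [← hF]
  exact congrArg (fun t : Q X ⟶ cokernel (divMap hfact) => t.hom.app (op W) ((π₀ X).hom.app (op W) F))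
    (cokernel.condition _)

/-- The pulled back quotient is the constant sheaf. -/
theorem nonempty_G_iso_const (hfact : Factorial X) (x : CPt X) :
    Nonempty (G x.1 ≅ EtCoh.const (Spec (X.residueField x.1)) ℤ) := by
  obtain ⟨e⟩ := EtLocCohLib.nonempty_iso_cK_of_isCst
    ((isCst_G (isParam_param hfact x)).map ((hTx x.1).from (EtCoh.top (Spec (X.residueField x.1)))))
  exact ⟨e.symm⟩

include hfact in
/-- The cokernel of `G_m → η_* G_m` is the sheaf of divisors. -/
theorem nonempty_cokernel_iso : Nonempty (Q X ≅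
    ∐ fun x : CPt X => (EtCoh.push (ix x.1)).obj (EtCoh.const (Spec (X.residueField x.1)) ℤ)) := by
  haveI := mono_divMap hfact
  haveI := epi_divMap hfact
  haveI : IsIso (divMap hfact) := isIso_of_mono_of_epi _
  exact ⟨asIso (divMap hfact) ≪≫
    Sigma.mapIso fun x => (EtCoh.push (ix x.1)).mapIso (nonempty_G_iso_const hfact x).some⟩

end DivSeqLib

end
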