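import Groth.Agent.DivSeqLib.Chart
import Mathlib.AlgebraicGeometry.Noetherian
import Mathlib.RingTheory.Ideal.Height

/-!
# Orders of rational functions at codimension one points of étale schemes
-/

set_option autoImplicit false
set_option linter.style.haveILetI false
set_option linter.unusedSectionVars false
set_option backward.isDefEq.respectTransparency false
set_option backward.isDefEq.respectTransparency.types false
set_option synthInstance.maxHeartbeats 400000
set_option maxHeartbeats 2000000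

universe u

open CategoryTheory CategoryTheory.Limits AlgebraicGeometry Opposite IsLocalRing
open Groth.Agent.EtShLib MuConstLib

noncomputable section

namespace DivSeqLib

variable {X : Scheme.{u}} [IsIntegral X]

/-- Codimension one. -/
def Codim1 (x : X) : Prop := ringKrullDim (X.presheaf.stalk x) = 1

/-- All strictly local rings are factorial, in terms of étale neighbourhoods. -/
def Factorial (X : Scheme.{u}) : Prop :=
  ∀ (U : X.Etale) (u : U.left), IsDomain (U.left.presheaf.stalk u) ∧ UniqueFactorizationMonoid (U.left.presheaf.stalk u)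

variable {U : X.Opens} (hU : IsAffineOpen U) [Nonempty U]

theorem isHtOne_iff_height {R : Type u} [CommRing R] [IsDomain R] (p : Ideal R) [p.IsPrime] :
    IsHtOne p ↔ p.height = 1 := by
  constructor
  · rintro ⟨h0, h1⟩
    refine le_antisymm ?_ (Order.one_le_iff_ne_zero.2 fun h => h0 (Ideal.height_eq_zero_iff_eq_bot.1 h))
    refine (Ideal.height_le_iff (n := 1)).2 fun q hq hlt => ?_
    rcases h1 q hq hlt.le with h | h
    · rw [Ideal.height_eq_zero_iff_eq_bot.2 h]
      exact_mod_cast Nat.zero_lt_one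
    · exact absurd h hlt.ne
  · intro h
    refine ⟨Ideal.ne_bot_of_height_eq_one h, fun P hP hle => ?_⟩
    rcases hle.lt_or_eq with hlt | he
    · have := (Ideal.height_le_iff (n := 1)).1 h.le P hP hlt
      exact Or.inl (Ideal.height_eq_zero_iff_eq_bot.1 (ENat.lt_one_iff_eq_zero.1 (by exact_mod_cast this)))
    · exact Or.inr he

theorem codim1_iff (x : U) : Codim1 (x : X) ↔ IsHtOne (hU.primeIdealOf x).asIdeal := by
  haveI := hU.isLocalization_stalk x
  rw [isHtOne_iff_height, Codim1,
    IsLocalization.AtPrime.ringKrullDim_eq_height (hU.primeIdealOf x).asIdeal (X.presheaf.stalk (x : X))]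
  norm_cast

variable (A : Type u) [CommRing A] [Algebra Γ(X, U) A] [Algebra.Etale Γ(X, U) A]

theorem chart_pt (q : PrimeSpectrum A) :
    ∃ h : (chart hU A).hom.base q ∈ U,
      (hU.primeIdealOf ⟨_, h⟩).asIdeal = q.asIdeal.under Γ(X, U) := by
  haveI : IsOpenImmersion hU.fromSpec := hU.isOpenImmersion_fromSpec
  let p : PrimeSpectrum Γ(X, U) := PrimeSpectrum.comap (algebraMap Γ(X, U) A) q
  have hx : (chart hU A).hom.base q = hU.fromSpec.base p := rfl
  have h : (chart hU A).hom.base q ∈ U := by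
    rw [hx]
    exact hU.range_fromSpec.subset ⟨p, rfl⟩
  refine ⟨h, ?_⟩
  have : hU.primeIdealOf ⟨_, h⟩ = p :=
    hU.fromSpec.isOpenEmbedding.injective ((hU.fromSpec_primeIdealOf _).trans hx)
  exact congrArg PrimeSpectrum.asIdeal this

theorem codim1_chart (q : PrimeSpectrum A) :
    Codim1 (X := X) ((chart hU A).hom.base q) ↔ IsHtOne (q.asIdeal.under Γ(X, U)) := by
  obtain ⟨h, e⟩ := chart_pt hU A q
  rw [← e]
  exact codim1_iff hU ⟨_, h⟩

include hU in
theorem factorial_chart (hfact : Factorial X) (q : PrimeSpectrum A) :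
    IsDomain (Localization.AtPrime q.asIdeal) ∧ UniqueFactorizationMonoid (Localization.AtPrime q.asIdeal) := by
  obtain ⟨h1, h2⟩ := hfact (chart hU A) q
  let S : Type u := (Spec (CommRingCat.of A)).presheaf.stalk q
  letI : Algebra A S := StructureSheaf.stalkAlgebra A q
  haveI : IsLocalization.AtPrime S q.asIdeal := StructureSheaf.IsLocalization.to_stalk A q
  haveI : IsDomain S := h1
  haveI : UniqueFactorizationMonoid S := h2
  let e : S ≃ₐ[A] Localization.AtPrime q.asIdeal := IsLocalization.algEquiv q.asIdeal.primeCompl _ _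
  exact ⟨e.symm.toMulEquiv.isDomain, e.toMulEquiv.uniqueFactorizationMonoid inferInstance⟩

include hU in
theorem isNoetherianRing_Γ [IsLocallyNoetherian X] : IsNoetherianRing Γ(X, U) :=
  IsLocallyNoetherian.component_noetherian ⟨U, hU⟩

theorem max_congr {R : Type u} [CommRing R] {P P' : Ideal R} [P.IsPrime] [P'.IsPrime] (e : P = P') {t : R}
    (h : maximalIdeal (Localization.AtPrime P) = Ideal.span {algebraMap R _ t}) :
    maximalIdeal (Localization.AtPrime P') = Ideal.span {algebraMap R _ t} := by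
  subst e
  exact h

/-- A parameter at `x`. -/
def IsParam (x : X) (π : X.functionFieldˣ) : Prop :=
  ∃ t : X.presheaf.stalk x, maximalIdeal (X.presheaf.stalk x) = Ideal.span {t} ∧
    algebraMap (X.presheaf.stalk x) X.functionField t = π

theorem exists_param [IsLocallyNoetherian X] (hfact : Factorial X) (x : X) (hx : Codim1 x) :
    ∃ π : X.functionFieldˣ, IsParam x π := by
  obtain ⟨h1, h2⟩ := hfact (EtCoh.top X) x
  let S : Type u := X.presheaf.stalk x
  haveI : UniqueFactorizationMonoid S := h2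
  have hdim : ringKrullDim S = 1 := hx
  haveI : Ring.KrullDimLE 1 S := (Order.krullDimLE_iff 1 (PrimeSpectrum S)).2 hdim.le
  have hnF : ¬ IsField S := fun h => by
    rw [ringKrullDim_eq_zero_of_isField h] at hdim
    exact zero_ne_one hdim
  have hm : maximalIdeal S ≠ ⊥ := fun h => hnF (isField_iff_maximalIdeal_eq.2 h)
  obtain ⟨g, hgm, hg⟩ := (inferInstance : (maximalIdeal S).IsPrime).exists_mem_prime_of_ne_bot hm
  haveI : (Ideal.span {g}).IsPrime := (Ideal.span_singleton_prime hg.ne_zero).2 hg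
  haveI : (Ideal.span {g}).IsMaximal :=
    Ring.krullDimLE_one_iff_of_noZeroDivisors.1 inferInstance _
      (fun h => hg.ne_zero (Ideal.span_singleton_eq_bot.1 h)) inferInstance
  have he : maximalIdeal S = Ideal.span {g} := (IsLocalRing.eq_maximalIdeal inferInstance).symm
  have hu : IsUnit (algebraMap S X.functionField g) :=
    isUnit_iff_ne_zero.2 ((map_ne_zero_iff _ (IsFractionRing.injective S X.functionField)).2 hg.ne_zero)
  exact ⟨hu.unit, g, he, hu.unit_spec.symm⟩

theorem param_chart (x : U) {π : X.functionFieldˣ} (hπ : IsParam (x : X) π) :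
    ∃ t s : Γ(X, U), t ≠ 0 ∧ s ∉ (hU.primeIdealOf x).asIdeal ∧ t ∈ (hU.primeIdealOf x).asIdeal ∧
      maximalIdeal (Localization.AtPrime (hU.primeIdealOf x).asIdeal) = Ideal.span {algebraMap Γ(X, U) _ t} ∧
      (π : X.functionField) * algebraMap Γ(X, U) X.functionField s = algebraMap Γ(X, U) X.functionField t := by
  obtain ⟨g, hm, hg⟩ := hπ
  haveI := hU.isLocalization_stalk x
  haveI := functionField_isScalarTower X U x
  let p := (hU.primeIdealOf x).asIdeal
  let S : Type u := X.presheaf.stalk (x : X)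
  obtain ⟨⟨t, s⟩, hts⟩ := IsLocalization.surj p.primeCompl g
  have he : (π : X.functionField) * algebraMap Γ(X, U) X.functionField s = algebraMap Γ(X, U) X.functionField t := by
    rw [← hg, IsScalarTower.algebraMap_apply Γ(X, U) S X.functionField, ← map_mul, hts, ← IsScalarTower.algebraMap_apply]
  have hspan : maximalIdeal S = Ideal.span {algebraMap Γ(X, U) S t} := by
    rw [hm, ← hts]
    exact (Ideal.span_singleton_mul_right_unit (IsLocalization.map_units S s) g).symm
  let e : S ≃ₐ[Γ(X, U)] Localization.AtPrime p := IsLocalization.algEquiv p.primeCompl _ _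
  refine ⟨t, s, fun h0 => ?_, s.2, ?_, ?_, he⟩
  · rw [h0, map_zero] at he
    rcases mul_eq_zero.1 he with h | h
    · exact π.ne_zero h
    · refine s.2 ?_
      rw [(map_eq_zero_iff _ (by
        haveI := functionField_isFractionRing_of_isAffineOpen X U hU
        exact IsFractionRing.injective Γ(X, U) X.functionField)).1 h]
      exact p.zero_mem
  · have : algebraMap Γ(X, U) S t ∈ maximalIdeal S := hspan ▸ Ideal.mem_span_singleton_self _
    exact (IsLocalization.AtPrime.to_map_mem_maximal_iff S p t).1 this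
  · refine le_antisymm (fun y hy => ?_) ((Ideal.span_singleton_le_iff_mem _).2 ?_)
    · obtain ⟨z, rfl⟩ := e.surjective y
      have hz : z ∈ maximalIdeal S := fun hu => hy (hu.map e)
      rw [hspan, Ideal.mem_span_singleton] at hz
      rw [Ideal.mem_span_singleton]
      obtain ⟨w, rfl⟩ := hz
      exact ⟨e w, by rw [map_mul, AlgEquiv.commutes]⟩
    · rw [← e.commutes]
      intro hu
      have h2 : algebraMap Γ(X, U) S t ∈ maximalIdeal S := hspan ▸ Ideal.mem_span_singleton_self _
      exact h2 ((MulEquiv.isUnit_map e).1 hu)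

theorem jVal_secV_T (t : Γ(X, U)) (ht : algebraMap Γ(X, U) X.functionField t ≠ 0) :
    jVal X (secV X (chart hU A) (isUnit_iff_ne_zero.2 ht).unit) = jA hU A (algebraMap Γ(X, U) A t) := by
  rw [jA_algebraMap]
  rfl

theorem ne_zero_iff (t : Γ(X, U)) : algebraMap Γ(X, U) X.functionField t ≠ 0 ↔ t ≠ 0 :=
  (map_ne_zero_iff _ (Scheme.germToFunctionField_injective (X := X) U))

/-- The orders on a chart. -/
theorem exists_order_chart [IsLocallyNoetherian X] (q : PrimeSpectrum A) {π : X.functionFieldˣ}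
    (hπ : IsParam (X := X) ((chart hU A).hom.base q) π) (f : ToType ((J X).obj.obj (op (chart hU A)))) :
    (∃ m : ℤ, UN X (f + m • secV X (chart hU A) π) (V := chart hU A) q) ∧
    (∀ m : ℤ, UN X (m • secV X (chart hU A) π) (V := chart hU A) q → m = 0) := by
  haveI : IsNoetherianRing Γ(X, U) := isNoetherianRing_Γ hU
  obtain ⟨hx, hp⟩ := chart_pt hU A q
  obtain ⟨t, s, ht0, hs, htp, hm, he⟩ := param_chart hU ⟨_, hx⟩ hπ
  haveI : (q.asIdeal.under Γ(X, U)).IsPrime := inferInstance
  rw [hp] at hs htp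
  have hm' : maximalIdeal (Localization.AtPrime (q.asIdeal.under Γ(X, U))) =
      Ideal.span {algebraMap Γ(X, U) _ t} :=
    max_congr hp hm
  let AK : Type u := Γ((gV X (chart hU A)).left, ⊤)
  let T : AKˣ := (isUnit_algebraMap_AK (R := Γ(X, U)) (A := A) (AK := AK) ht0).unit
  let P : AKˣ := jUnit X (secV X (chart hU A) π)
  have hs0 : s ≠ 0 := fun h => hs (h ▸ Ideal.zero_mem _)
  let S : AKˣ := (isUnit_algebraMap_AK (R := Γ(X, U)) (A := A) (AK := AK) hs0).unit
  have hPS : T = P * S := Units.ext (by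
    rw [Units.val_mul, IsUnit.unit_spec, IsUnit.unit_spec, algebraMap_gen, jA_algebraMap, jA_algebraMap, ← he, map_mul]
    rfl)
  have hS : UnitAt q.asIdeal (S : AK) := ⟨algebraMap Γ(X, U) A s, 1, hs,
    fun h => (inferInstance : q.asIdeal.IsPrime).ne_top ((Ideal.eq_top_iff_one _).2 h), by
      rw [map_one, mul_one, IsUnit.unit_spec]⟩
  have hSz : ∀ m : ℤ, UnitAt q.asIdeal ((S ^ m : AKˣ) : AK) := by
    have hn : ∀ n : ℕ, UnitAt q.asIdeal ((S ^ n : AKˣ) : AK) := fun n => by
      induction n with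
      | zero => rw [pow_zero, Units.val_one]; exact UnitAt.one
      | succ n ih => rw [pow_succ, Units.val_mul]; exact ih.mul hS
    intro m
    obtain ⟨n, rfl | rfl⟩ := m.eq_nat_or_neg
    · rw [zpow_natCast]; exact hn n
    · rw [zpow_neg, zpow_natCast]; exact (hn n).inv
  have hval : ∀ (g : ToType ((J X).obj.obj (op (chart hU A)))) (m : ℤ),
      cVal hU A (g + m • secV X (chart hU A) π) = (jUnit X g * P ^ m : AKˣ) := fun g m => by
    rw [cVal, jVal_add, Units.val_mul]
    rfl
  constructor
  · obtain ⟨m, hm1⟩ := exists_unitAt_zpow (R := Γ(X, U)) (q := q.asIdeal) rfl ht0 hm' (jUnit X f)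
    refine ⟨m, UN_of_unitAt hU A q ?_⟩
    rw [hval]
    have := hm1.mul ((hSz m).inv)
    rw [← Units.val_mul] at this
    convert this using 2
    show jUnit X f * P ^ m = jUnit X f * T ^ m * (S ^ m)⁻¹
    rw [hPS, mul_zpow]
    group
  · intro m hm1
    refine zpow_eq_zero (R := Γ(X, U)) (A := A) (AK := AK) (q := q.asIdeal) ht0 htp ?_
    have h := unitAt_of_UN hU A q hm1
    have h2 := h.mul (hSz m)
    show UnitAt q.asIdeal ((T ^ m : AKˣ) : AK)
    rw [hPS, mul_zpow, Units.val_mul]
    exact h2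

variable {V : X.Etale}

/-- Existence of orders. -/
theorem exists_order [IsLocallyNoetherian X] (f : ToType ((J X).obj.obj (op V))) (w : V.left)
    {π : X.functionFieldˣ} (hπ : IsParam (X := X) (V.hom.base w) π) : ∃ m : ℤ, UN X (f - m • secV X V π) w := by
  obtain ⟨U, hU, hwU, -⟩ := exists_isAffineOpen_mem_and_subset (show V.hom.base w ∈ (⊤ : X.Opens) from trivial)
  haveI : Nonempty U := ⟨⟨_, hwU⟩⟩
  obtain ⟨A, _, _, _, k, q, hq, _⟩ := exists_chart hU V w hwU
  have hx : (chart hU A).hom.base q = V.hom.base w := by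
    rw [← hq, ← MorphismProperty.Over.w k]
    rfl
  obtain ⟨m, hm⟩ := (exists_order_chart hU A q (hx ▸ hπ) ((J X).obj.map k.op f)).1
  refine ⟨-m, ?_⟩
  rw [← hq, ← UN_res_iff, map_sub, map_zsmul, secV_res, neg_zsmul, sub_neg_eq_add]
  exact hm

/-- Uniqueness of orders. -/
theorem order_unique [IsLocallyNoetherian X] (w : V.left) {π : X.functionFieldˣ} (hπ : IsParam (X := X) (V.hom.base w) π)
    {m : ℤ} (h : UN X (m • secV X V π) w) : m = 0 := by
  obtain ⟨U, hU, hwU, -⟩ := exists_isAffineOpen_mem_and_subset (show V.hom.base w ∈ (⊤ : X.Opens) from trivial)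
  haveI : Nonempty U := ⟨⟨_, hwU⟩⟩
  obtain ⟨A, _, _, _, k, q, hq, _⟩ := exists_chart hU V w hwU
  have hx : (chart hU A).hom.base q = V.hom.base w := by
    rw [← hq, ← MorphismProperty.Over.w k]
    rfl
  refine (exists_order_chart hU A q (hx ▸ hπ) 0).2 m ?_
  rw [← hq, ← UN_res_iff, map_zsmul, secV_res] at h
  exact h

/-- Algebraic Hartogs. -/
theorem UN_of_codim1 [IsLocallyNoetherian X] (hfact : Factorial X) (f : ToType ((J X).obj.obj (op V))) (w : V.left)
    (h : ∀ w' : V.left, w' ⤳ w → Codim1 (X := X) (V.hom.base w') → UN X f w') : UN X f w := by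
  obtain ⟨U, hU, hwU, -⟩ := exists_isAffineOpen_mem_and_subset (show V.hom.base w ∈ (⊤ : X.Opens) from trivial)
  haveI : Nonempty U := ⟨⟨_, hwU⟩⟩
  haveI : IsNoetherianRing Γ(X, U) := isNoetherianRing_Γ hU
  obtain ⟨A, _, _, _, k, q, hq, _⟩ := exists_chart hU V w hwU
  rw [← hq, ← UN_res_iff, UN_iff_unitAt]
  obtain ⟨hd, hufd⟩ := factorial_chart hU A hfact q
  refine unitAt_of_htOne (R := Γ(X, U)) hd hufd (jUnit X ((J X).obj.map k.op f)) fun q' _ hle hp => ?_
  refine (UN_iff_unitAt hU A ⟨q', inferInstance⟩ _).1 ((UN_res_iff X k f _).2 (h _ ?_ ?_))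
  · rw [← hq]
    exact Specializes.map ((PrimeSpectrum.le_iff_specializes (⟨q', inferInstance⟩ : PrimeSpectrum A) q).1 hle)
      k.left.continuous
  · have e : V.hom.base (k.left.base (⟨q', inferInstance⟩ : PrimeSpectrum A)) =
        (chart hU A).hom.base (⟨q', inferInstance⟩ : PrimeSpectrum A) := by
      rw [← MorphismProperty.Over.w k]
      rfl
    rw [e]
    exact (codim1_chart hU A _).2 hp

/-- On a chart only finitely many codimension one points carry zeros or poles. -/
theorem finite_not_UN [IsLocallyNoetherian X] (hfact : Factorial X) (f : ToType ((J X).obj.obj (op (chart hU A)))) :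
    {q : PrimeSpectrum A | Codim1 (X := X) ((chart hU A).hom.base q) ∧ ¬ UN X f (V := chart hU A) q}.Finite := by
  haveI : IsNoetherianRing Γ(X, U) := isNoetherianRing_Γ hU
  refine (finite_not_unitAt (R := Γ(X, U)) (A := A) (jUnit X f)).subset fun q ⟨h1, h2⟩ => ?_
  exact ⟨(codim1_chart hU A q).1 h1, (factorial_chart hU A hfact q).1, fun h => h2 (UN_of_unitAt hU A q h)⟩

/-- Local equations. -/
theorem exists_equation_sec [IsLocallyNoetherian X] (hfact : Factorial X) {w w₁ : V.left} (hsp : w₁ ⤳ w)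
    {π : X.functionFieldˣ} (hπ : IsParam (X := X) (V.hom.base w₁) π) (h₁ : Codim1 (X := X) (V.hom.base w₁)) :
    ∃ (W : X.Etale) (g : W ⟶ V) (z : W.left) (f : ToType ((J X).obj.obj (op W))), IsOpenImmersion g.left ∧
      g.left.base z = w ∧
      ∀ z' : W.left, z' ⤳ z → Codim1 (X := X) (W.hom.base z') →
        (g.left.base z' = w₁ → UN X (f - secV X W π) z') ∧ (g.left.base z' ≠ w₁ → UN X f z') := by
  obtain ⟨U, hU, hwU, -⟩ := exists_isAffineOpen_mem_and_subset (show V.hom.base w ∈ (⊤ : X.Opens) from trivial)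
  haveI : Nonempty U := ⟨⟨_, hwU⟩⟩
  haveI : IsNoetherianRing Γ(X, U) := isNoetherianRing_Γ hU
  obtain ⟨A, _, _, _, k, q, hq, hk⟩ := exists_chart hU V w hwU
  obtain ⟨q₁, hq₁⟩ : w₁ ∈ Set.range k.left.base := hsp.mem_open k.left.isOpenEmbedding.isOpen_range ⟨q, hq⟩
  have hle : q₁.asIdeal ≤ q.asIdeal := (PrimeSpectrum.le_iff_specializes q₁ q).2
    (k.left.isOpenEmbedding.isInducing.specializes_iff.1 (by rw [hq₁, hq]; exact hsp))
  have hx₁ : (chart hU A).hom.base q₁ = V.hom.base w₁ := by
    rw [← hq₁, ← MorphismProperty.Over.w k]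
    rfl
  have hp₁ : IsHtOne (q₁.asIdeal.under Γ(X, U)) := (codim1_chart hU A q₁).1 (by rw [hx₁]; exact h₁)
  obtain ⟨hd, hufd⟩ := factorial_chart hU A hfact q
  obtain ⟨g, c, s, r, hgq, hs, hr, hgc, huniq, hloc⟩ :=
    exists_equation (R := Γ(X, U)) hd hufd q₁.asIdeal hle hp₁
  obtain ⟨hx, hp⟩ := chart_pt hU A q₁
  obtain ⟨t, s₀, ht0, hs₀, htp, hm, he⟩ := param_chart hU ⟨_, hx⟩ (π := π) (by show IsParam (X := X) ((chart hU A).hom.base q₁) π; rw [hx₁]; exact hπ)
  rw [hp] at hs₀ htp
  have hm' : maximalIdeal (Localization.AtPrime (q₁.asIdeal.under Γ(X, U))) =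
      Ideal.span {algebraMap Γ(X, U) _ t} :=
    max_congr hp hm
  obtain ⟨a, b, ha, hb, hgb⟩ := hloc t ht0 htp (map_maximalIdeal_eq A q₁.asIdeal rfl hm')
  let B := Localization.Away s
  haveI : Algebra.Etale A B := Algebra.Etale.of_isLocalizationAway s
  haveI : Algebra.Etale Γ(X, U) B := Algebra.Etale.comp Γ(X, U) A B
  let AK : Type u := Γ((gV X (chart hU B)).left, ⊤)
  have hug : IsUnit (algebraMap B AK (algebraMap A B g)) := by
    refine isUnit_of_mul_isUnit_left (y := algebraMap B AK (algebraMap A B c)) ?_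
    rw [← map_mul, ← map_mul, hgc, map_mul, map_mul, ← IsScalarTower.algebraMap_apply Γ(X, U) A B]
    exact (isUnit_algebraMap_AK hr).mul ((IsLocalization.Away.algebraMap_isUnit s).map _)
  let φ : A →ₐ[Γ(X, U)] B := IsScalarTower.toAlgHom Γ(X, U) A B
  obtain ⟨z, hz⟩ : q ∈ Set.range (PrimeSpectrum.comap (algebraMap A B)) := by
    rw [PrimeSpectrum.localization_away_comap_range B s]
    exact hs
  haveI : IsOpenImmersion (chartMap hU A φ ≫ k).left := by
    haveI : IsOpenImmersion (chartMap hU A φ).left := IsOpenImmersion.of_isLocalization (S := B) s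
    exact inferInstanceAs (IsOpenImmersion ((chartMap hU A φ).left ≫ k.left))
  refine ⟨chart hU B, chartMap hU A φ ≫ k, z, ULift.up (Additive.ofMul hug.unit), inferInstance, ?_, fun z' hz' hc => ?_⟩
  · rw [← hq, ← hz]
    rfl
  let q' : PrimeSpectrum A := PrimeSpectrum.comap (algebraMap A B) z'
  have hq' : q'.asIdeal ≤ q.asIdeal := by
    rw [← hz]
    exact Ideal.comap_mono ((PrimeSpectrum.le_iff_specializes (z' : PrimeSpectrum B) z).2 hz')
  have hp' : IsHtOne (q'.asIdeal.under Γ(X, U)) := by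
    have h := (codim1_chart hU B z').1 hc
    rwa [← Ideal.under_under (A := Γ(X, U)) (B := A) (z' : PrimeSpectrum B).asIdeal] at h
  have hiff : (chartMap hU A φ ≫ k).left.base z' = w₁ ↔ q' = q₁ := by
    rw [← hq₁]
    exact k.left.isOpenEmbedding.injective.eq_iff
  rw [hiff]
  constructor
  · intro hqq
    refine UN_of_unitAt hU B z' ?_
    have hz1 : ∀ e : A, e ∉ q₁.asIdeal → algebraMap A B e ∉ (z' : PrimeSpectrum B).asIdeal := fun e hne hmem =>
      hne (hqq ▸ (hmem : e ∈ q'.asIdeal))
    have hU0 : (z' : PrimeSpectrum B).asIdeal.IsPrime := inferInstance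
    refine ⟨algebraMap A B a * algebraMap Γ(X, U) B s₀, algebraMap A B b, ?_, hz1 b hb, ?_⟩
    · refine hU0.mul_notMem (hz1 a ha) ?_
      rw [IsScalarTower.algebraMap_apply Γ(X, U) A B]
      exact hz1 _ hs₀
    · have e1 : jVal X (secV X (chart hU B) π) * algebraMap B AK (algebraMap Γ(X, U) B s₀) =
          algebraMap B AK (algebraMap Γ(X, U) B t) := by
        rw [algebraMap_gen, jA_algebraMap, jA_algebraMap, ← he, map_mul]
        rfl
      have e2 : algebraMap B AK (algebraMap A B g) * algebraMap B AK (algebraMap A B b) =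
          algebraMap B AK (algebraMap Γ(X, U) B t) * algebraMap B AK (algebraMap A B a) := by
        rw [IsScalarTower.algebraMap_apply Γ(X, U) A B, ← map_mul, ← map_mul, ← map_mul, ← map_mul, hgb]
      refine (jUnit X (secV X (chart hU B) π)).isUnit.mul_right_cancel ?_
      rw [cVal, sub_eq_add_neg, jVal_add]
      show hug.unit.val * ((jUnit X (secV X (chart hU B) π))⁻¹ : AKˣ).val * _ * (jUnit X (secV X (chart hU B) π)).val = _
      rw [IsUnit.unit_spec, mul_right_comm _ (((jUnit X (secV X (chart hU B) π))⁻¹ : AKˣ).val),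
        mul_assoc _ (((jUnit X (secV X (chart hU B) π))⁻¹ : AKˣ).val), Units.inv_mul, mul_one, e2, map_mul, jUnit_val]
      linear_combination -(algebraMap B AK (algebraMap A B a)) * e1
  · intro hne
    refine UN_of_unitAt hU B z' ⟨algebraMap A B g, 1, fun hmem => hne (hiff.2 (PrimeSpectrum.ext ?_)),
      fun h => (inferInstance : (z' : PrimeSpectrum B).asIdeal.IsPrime).ne_top ((Ideal.eq_top_iff_one _).2 h), ?_⟩
    · exact huniq q'.asIdeal inferInstance hq' hp' hmem
    · rw [map_one, mul_one]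
      rfl

end DivSeqLib

end
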